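import Cfsg.Agent.Mrg.Omega.KL.TwoZ.Fr
import Cfsg.Agent.Mrg.Omega.OM.PG.ExactQ
import Cfsg.Agent.Mrg.Omega.KL.TwoZ.Ex
import Cfsg.Agent.Mrg.Omega.OM.PT.PTW
import Cfsg.Agent.Mrg.Omega.KL.TwoZ.NF
import Cfsg.Agent.Mrg.Omega.KL.TwoZ.GThree
import Cfsg.Agent.Mrg.Omega.OM.PT.Pc

-- merged: Cfsg.Agent.Mrg.Omega.KL.TwoZ.Burn
section

section


/-!
# Burnside for two points / two lines (helper918, TEXT W2 #24006 (0.1), (0.2); #24444 (F1))

`S` a Sylow 2-subgroup of `G`, `z i ≤ Ω₁Z(S)`, `z i ≤ l i` (points: `z = l = Z`; lines: `l i` the line through `z i`),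
`N_G(S)` permutes the triples `(z i, l i, U i)`, `C_G(m) ≤ N_G(l i)` for `m ∈ z i#`.

* `BT S z l U` : the data;
* `BT.cen` : `C_G(m) ≤ N_G(l i)`, `m ∈ l i#`;
* `BT.fuse` : `a ∈ l i#`, `gag⁻¹ ∈ l j`: `(l i)^g = l j`, and `i = j` or some `n ∈ N_G(S)` is a swap;
* `BT.ti : PT.TIp l`; `BT.fus`; `BT.fusP` : (0.2);
* `BT.adj_iff`, `BT.lnOn_iff`, `BT.nn_eq`, `BT.xw_eq` : neighbours and lines of `l i` are conjugate under `C i` (`Tra`).
-/

set_option autoImplicit false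
set_option linter.unusedSectionVars false

namespace Cfsg.Agent.Omega.KL.TwoZ

open Subgroup Cfsg Cfsg.Agent.Omega.MinPar
open Cfsg.Agent.ZN (o2 zc)
open Cfsg.Agent.Omega.NoFF.Basic (conj_conj mem_conj conj_le_iff comm_symm comm_mono Z_le_V V_le)
open Cfsg.Agent.Omega.NOThreeL.Pair (conj_eq_of_mem)
open Cfsg.Agent.ZN.ChoiceSit (Syl exists_syl syl_conj)
open Cfsg.Agent.MinSimple.VModule (mem_zc zc_le)
open Cfsg.Agent.Omega.OM (PT.add2 PT.eq_or)
open scoped Pointwise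

universe u

variable {G : Type u} [Group G]

namespace Burn

theorem mem_norm_of_conj {g : G} {A : Subgroup G} (h : MulAut.conj g • A = A) : g ∈ normalizer (A : Set G) :=
  Cfsg.Agent.ZN.ChoiceBase.mem_normalizer_iff_cj.2 h

theorem inv_cj {g : G} {A B : Subgroup G} (h : MulAut.conj g • A = B) : MulAut.conj g⁻¹ • B = A := by
  rw [← h, conj_conj, inv_mul_cancel, map_one, one_smul]

theorem mem_cj {g a : G} {A : Subgroup G} (ha : a ∈ A) : g * a * g⁻¹ ∈ MulAut.conj g • A := ⟨a, ha, rfl⟩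

/-- **Burnside** : two elements of `Z(S)` conjugate in `G` are conjugate in `N_G(S)`. -/
theorem burnside [Finite G] {S : Subgroup G} (hS : Syl S ⊤) {a b g : G} (ha : a ∈ centralizer (S : Set G))
    (hb : b ∈ centralizer (S : Set G)) (h : g * a * g⁻¹ = b) :
    ∃ c ∈ centralizer ({b} : Set G), c * g ∈ normalizer (S : Set G) ∧ c * g * a * (c * g)⁻¹ = b := by
  have h1 : Syl S (centralizer ({b} : Set G)) :=
    ⟨fun s hs => mem_centralizer_singleton_iff.2 (mem_centralizer_iff.1 hb s hs), hS.2.1,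
      fun R _ hR2 hSR => hS.2.2 R le_top hR2 hSR⟩
  have h2 : Syl (MulAut.conj g • S) (centralizer ({b} : Set G)) := by
    refine ⟨?_, hS.2.1.of_equiv (Subgroup.equivSMul (MulAut.conj g) S), fun R _ hR2 hSR => ?_⟩
    · rintro _ ⟨s, hs, rfl⟩
      rw [mem_centralizer_singleton_iff]
      have e := mem_centralizer_iff.1 ha s hs
      change g * s * g⁻¹ * b = b * (g * s * g⁻¹)
      rw [← h]
      calc g * s * g⁻¹ * (g * a * g⁻¹) = g * (s * a) * g⁻¹ := by group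
        _ = g * (a * s) * g⁻¹ := by rw [e]
        _ = _ := by group
    · have h3 : S ≤ MulAut.conj g⁻¹ • R := by
        have := conj_le_iff (g := g⁻¹) |>.2 hSR
        rwa [conj_conj, inv_mul_cancel, map_one, one_smul] at this
      have h4 := hS.2.2 _ le_top (hR2.of_equiv (Subgroup.equivSMul (MulAut.conj g⁻¹) R)) h3
      rw [← h4, conj_conj, mul_inv_cancel, map_one, one_smul]
  obtain ⟨c, hc, hc2⟩ := syl_conj h2 h1
  refine ⟨c, hc, ?_, ?_⟩
  · apply mem_norm_of_conj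
    rw [← conj_conj]
    exact hc2
  · have e := mem_centralizer_singleton_iff.1 hc
    calc c * g * a * (c * g)⁻¹ = c * (g * a * g⁻¹) * c⁻¹ := by group
      _ = (c * b) * c⁻¹ := by rw [h]
      _ = b := by rw [e]; group

/-- `S` Sylow in `G`, `X` normalised by `H ≥ X ≥ S` : `H = X N_H(S)` -/
theorem frattini [Finite G] {S X : Subgroup G} (hS : Syl S ⊤) (hSX : S ≤ X) {g : G}
    (hg : g ∈ normalizer (X : Set G)) : ∃ x ∈ X, x⁻¹ * g ∈ normalizer (S : Set G) := by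
  have h1 : Syl S X := ⟨hSX, hS.2.1, fun R _ hR2 hSR => hS.2.2 R le_top hR2 hSR⟩
  have h2 : Syl (MulAut.conj g • S) X := by
    refine ⟨?_, hS.2.1.of_equiv (Subgroup.equivSMul (MulAut.conj g) S), fun R _ hR2 hSR => ?_⟩
    · have := conj_le_iff (g := g) |>.2 hSX
      rwa [conj_eq_of_mem hg] at this
    · have h3 : S ≤ MulAut.conj g⁻¹ • R := by
        have := conj_le_iff (g := g⁻¹) |>.2 hSR
        rwa [conj_conj, inv_mul_cancel, map_one, one_smul] at this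
      have h4 := hS.2.2 _ le_top (hR2.of_equiv (Subgroup.equivSMul (MulAut.conj g⁻¹) R)) h3
      rw [← h4, conj_conj, mul_inv_cancel, map_one, one_smul]
  obtain ⟨x, hx, hx2⟩ := syl_conj h1 h2
  refine ⟨x, hx, ?_⟩
  apply mem_norm_of_conj
  rw [← conj_conj]
  exact inv_cj hx2

end Burn

open Burn

/-- `n` fixes the triples -/
def Fx (z l U : Fin 2 → Subgroup G) (n : G) : Prop :=
  ∀ j, MulAut.conj n • z j = z j ∧ MulAut.conj n • l j = l j ∧ MulAut.conj n • U j = U j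

/-- `n` swaps the triples -/
def Sw (z l U : Fin 2 → Subgroup G) (n : G) : Prop :=
  ∀ j, MulAut.conj n • z j = z (j + 1) ∧ MulAut.conj n • l j = l (j + 1) ∧ MulAut.conj n • U j = U (j + 1)

/-- **the Burnside data**: points (`z = l`) or lines -/
structure BT (S : Subgroup G) (z l U : Fin 2 → Subgroup G) : Prop where
  syl : Syl S ⊤
  zS : ∀ i, z i ≤ zc S
  zl : ∀ i, z i ≤ l i
  ne : ∀ i, z i ≠ ⊥
  com : l 0 ≤ centralizer (l 1 : Set G)
  dis : l 0 ⊓ l 1 = ⊥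
  rep : ∀ i, ∀ a ∈ l i, ∃ h ∈ centralizer (l (i + 1) : Set G), h ∈ normalizer (l i : Set G) ∧ h * a * h⁻¹ ∈ z i
  nS : ∀ n ∈ normalizer (S : Set G), Fx z l U n ∨ Sw z l U n
  ctr : ∀ i, ∀ m ∈ z i, m ≠ 1 → centralizer ({m} : Set G) ≤ normalizer (l i : Set G)

namespace BT

variable {S : Subgroup G} {z l U : Fin 2 → Subgroup G} (B : BT S z l U)

include B

theorem com' (i : Fin 2) : l i ≤ centralizer (l (i + 1) : Set G) := by
  fin_cases i
  · exact B.com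
  · exact comm_symm B.com

theorem dis' (i : Fin 2) : l i ⊓ l (i + 1) = ⊥ := by
  fin_cases i
  · exact B.dis
  · have := B.dis
    rw [inf_comm] at this
    exact this

theorem one_of {i : Fin 2} {x : G} (h : x ∈ l i) (h' : x ∈ l (i + 1)) : x = 1 := by
  have h1 : x ∈ l i ⊓ l (i + 1) := ⟨h, h'⟩
  rwa [B.dis' i, mem_bot] at h1

theorem exists_ne (i : Fin 2) : ∃ m ∈ z i, m ≠ 1 := by
  by_contra hcon
  push Not at hcon
  exact B.ne i ((eq_bot_iff_forall _).2 hcon)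

theorem l_ne (i : Fin 2) : l i ≠ l (i + 1) := by
  intro e
  obtain ⟨m, hm, hm1⟩ := B.exists_ne i
  have h := B.zl i hm
  exact hm1 (B.one_of h (e ▸ h))

theorem z_cent {i : Fin 2} {m : G} (hm : m ∈ z i) : m ∈ centralizer (S : Set G) :=
  mem_centralizer_iff.2 fun s hs => ((mem_zc.1 (B.zS i hm)).2.1 s hs)

/-- `C_G(m) ≤ N_G(l i)`, `m ∈ l i#` -/
theorem cen {i : Fin 2} {m : G} (hm : m ∈ l i) (hm1 : m ≠ 1) :
    centralizer ({m} : Set G) ≤ normalizer (l i : Set G) := by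
  obtain ⟨h, -, hh, hz⟩ := B.rep i m hm
  intro c hc
  have h1 : h * m * h⁻¹ ≠ 1 := by
    intro e
    apply hm1
    calc m = h⁻¹ * (h * m * h⁻¹) * h := by group
      _ = 1 := by rw [e]; group
  have h2 : h * c * h⁻¹ ∈ centralizer ({h * m * h⁻¹} : Set G) := by
    rw [mem_centralizer_singleton_iff]
    have e := mem_centralizer_singleton_iff.1 hc
    calc h * c * h⁻¹ * (h * m * h⁻¹) = h * (c * m) * h⁻¹ := by group
      _ = h * (m * c) * h⁻¹ := by rw [e]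
      _ = _ := by group
  have h3 := B.ctr i _ hz h1 h2
  have h4 := mul_mem (mul_mem (inv_mem hh) h3) hh
  have e : h⁻¹ * (h * c * h⁻¹) * h = c := by group
  rwa [e] at h4

/-- an element of the product of the two in one of them is in a factor -/
theorem one_or {i j : Fin 2} {a b : G} (ha : a ∈ l i) (hb : b ∈ l (i + 1)) (hab : a * b ∈ l j) : a = 1 ∨ b = 1 := by
  rcases PT.eq_or i j with rfl | rfl
  · right
    have h1 : b ∈ l j := by
      have := mul_mem (inv_mem ha) hab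
      rwa [inv_mul_cancel_left] at this
    exact B.one_of h1 hb
  · left
    have h1 : a ∈ l (i + 1) := by
      have := mul_mem hab (inv_mem hb)
      rwa [mul_inv_cancel_right] at this
    exact B.one_of ha h1

variable [Finite G]

theorem fuse_z {i j : Fin 2} {a g : G} (ha : a ∈ z i) (ha1 : a ≠ 1) (hg : g * a * g⁻¹ ∈ z j) :
    MulAut.conj g • l i = l j ∧ (j = i ∨ ∃ n ∈ normalizer (S : Set G), Sw z l U n) := by
  obtain ⟨c, hc, hn, h1⟩ := burnside B.syl (B.z_cent ha) (B.z_cent hg) rfl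
  have h2 : g * a * g⁻¹ ≠ 1 := by
    intro e
    apply ha1
    calc a = g⁻¹ * (g * a * g⁻¹) * g := by group
      _ = 1 := by rw [e]; group
  have h3 : c ∈ normalizer (l j : Set G) := B.ctr j _ hg h2 hc
  have h4 : c * g * a * (c * g)⁻¹ ∈ l j := by rw [h1]; exact B.zl j hg
  have key : MulAut.conj (c * g) • l i = l j → MulAut.conj g • l i = l j := by
    intro h
    rw [← conj_conj] at h
    have h5 := inv_cj h
    rw [← h5]
    exact conj_eq_of_mem (inv_mem h3)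
  rcases B.nS _ hn with h | h
  · have h5 : c * g * a * (c * g)⁻¹ ∈ l i := by
      rw [← (h i).2.1]
      exact mem_cj (B.zl i ha)
    have h6 : j = i := by
      rcases PT.eq_or i j with e | e
      · exact e
      · exfalso
        rw [e] at h4
        have h7 := B.one_of h5 h4
        rw [h1] at h7
        exact h2 h7
    refine ⟨?_, Or.inl h6⟩
    rw [h6]
    rw [h6] at key
    exact key (h i).2.1
  · have h5 : c * g * a * (c * g)⁻¹ ∈ l (i + 1) := by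
      rw [← (h i).2.1]
      exact mem_cj (B.zl i ha)
    have h6 : j = i + 1 := by
      rcases PT.eq_or i j with e | e
      · exfalso
        rw [e] at h4
        have h7 := B.one_of h4 h5
        rw [h1] at h7
        exact h2 h7
      · exact e
    refine ⟨?_, Or.inr ⟨_, hn, h⟩⟩
    rw [h6]
    rw [h6] at key
    exact key (h i).2.1

/-- `a ∈ l i#`, `gag⁻¹ ∈ l j` : `(l i)^g = l j`, and `i = j` or there is a swap in `N_G(S)` -/
theorem fuse {i j : Fin 2} {a g : G} (ha : a ∈ l i) (ha1 : a ≠ 1) (hg : g * a * g⁻¹ ∈ l j) :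
    MulAut.conj g • l i = l j ∧ (j = i ∨ ∃ n ∈ normalizer (S : Set G), Sw z l U n) := by
  obtain ⟨h, -, hh, hz⟩ := B.rep i a ha
  obtain ⟨k, -, hk, hz'⟩ := B.rep j _ hg
  have h1 : h * a * h⁻¹ ≠ 1 := by
    intro e
    apply ha1
    calc a = h⁻¹ * (h * a * h⁻¹) * h := by group
      _ = 1 := by rw [e]; group
  have h2 : (k * g * h⁻¹) * (h * a * h⁻¹) * (k * g * h⁻¹)⁻¹ ∈ z j := by
    have e : (k * g * h⁻¹) * (h * a * h⁻¹) * (k * g * h⁻¹)⁻¹ = k * (g * a * g⁻¹) * k⁻¹ := by group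
    rwa [e]
  obtain ⟨h3, h4⟩ := B.fuse_z hz h1 h2
  refine ⟨?_, h4⟩
  rw [← conj_conj, ← conj_conj, conj_eq_of_mem (inv_mem hh)] at h3
  have h5 := inv_cj h3
  rw [← h5]
  exact conj_eq_of_mem (inv_mem hk)

/-- **(0.1)** : the points are t.i. -/
theorem ti : OM.PT.TIp l := by
  rintro _ _ ⟨i, k, rfl⟩ ⟨j, m, rfl⟩ hne
  rw [eq_bot_iff]
  rintro x ⟨hx, hx'⟩
  rw [mem_bot]
  by_contra hx1
  apply hne
  obtain ⟨a, ha, rfl⟩ := hx
  replace hx' : k * a * k⁻¹ ∈ MulAut.conj m • l j := hx'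
  have ha1 : a ≠ 1 := by
    rintro rfl
    exact hx1 (map_one _)
  have h1 : (m⁻¹ * k) * a * (m⁻¹ * k)⁻¹ ∈ l j := by
    rw [mem_conj] at hx'
    have e : (m⁻¹ * k) * a * (m⁻¹ * k)⁻¹ = m⁻¹ * (k * a * k⁻¹) * m := by group
    rwa [e]
  have h2 := (B.fuse ha ha1 h1).1
  rw [← h2, conj_conj, mul_inv_cancel_left]

/-- `PP.fus` -/
theorem fus (i : Fin 2) (k : G) (h : MulAut.conj k • l i = l (i + 1)) :
    ∃ s ∈ normalizer (S : Set G), Sw z l U s := by
  obtain ⟨m, hm, hm1⟩ := B.exists_ne i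
  have h1 : k * m * k⁻¹ ∈ l (i + 1) := by
    rw [← h]
    exact mem_cj (B.zl i hm)
  rcases (B.fuse (B.zl i hm) hm1 h1).2 with h2 | h2
  · exfalso
    have : ∀ i : Fin 2, i + 1 ≠ i := by decide
    exact this i h2
  · exact h2

/-- **(0.2)** -/
theorem zero_two {i j : Fin 2} {a b g : G} (ha : a ∈ l i) (hb : b ∈ l (i + 1)) (hg : g * (a * b) * g⁻¹ ∈ l j) :
    a = 1 ∨ b = 1 := by
  obtain ⟨h, hc, -, hz⟩ := B.rep i a ha
  obtain ⟨k, kc, -, kz⟩ := B.rep (i + 1) b hb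
  obtain ⟨m, -, -, mz⟩ := B.rep j _ hg
  rw [PT.add2] at kc
  set a' := h * a * h⁻¹ with ha'
  set b' := k * b * k⁻¹ with hb'
  have e1 : h * b = b * h := (mem_centralizer_iff.1 hc b hb).symm
  have e2 : k * a' = a' * k := (mem_centralizer_iff.1 kc a' (B.zl i hz)).symm
  have e3 : (k * h) * (a * b) * (k * h)⁻¹ = a' * b' := by
    calc (k * h) * (a * b) * (k * h)⁻¹ = k * (h * a * h⁻¹) * (h * b) * h⁻¹ * k⁻¹ := by group
      _ = k * a' * (b * h) * h⁻¹ * k⁻¹ := by rw [e1]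
      _ = (k * a') * b * k⁻¹ := by group
      _ = (a' * k) * b * k⁻¹ := by rw [e2]
      _ = a' * b' := by rw [hb']; group
  have e4 : (m * g * (k * h)⁻¹) * (a' * b') * (m * g * (k * h)⁻¹)⁻¹ = m * (g * (a * b) * g⁻¹) * m⁻¹ := by
    rw [← e3]
    group
  have hab : a' * b' ∈ centralizer (S : Set G) := mul_mem (B.z_cent hz) (B.z_cent kz)
  obtain ⟨c, -, hn, h1⟩ := burnside B.syl hab (B.z_cent mz) e4
  set n := c * (m * g * (k * h)⁻¹) with hndef
  have h2 : (n * a' * n⁻¹) * (n * b' * n⁻¹) ∈ l j := by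
    have e : (n * a' * n⁻¹) * (n * b' * n⁻¹) = n * (a' * b') * n⁻¹ := by group
    rw [e, h1]
    exact B.zl j mz
  have hone : ∀ {w x y : G}, x = w * y * w⁻¹ → x = 1 → y = 1 := by
    intro w x y e hx
    calc y = w⁻¹ * (w * y * w⁻¹) * w := by group
      _ = 1 := by rw [← e, hx]; group
  have h3 : n * a' * n⁻¹ = 1 ∨ n * b' * n⁻¹ = 1 := by
    rcases B.nS _ hn with h' | h'
    · refine B.one_or (i := i) ?_ ?_ h2
      · rw [← (h' i).2.1]
        exact mem_cj (B.zl _ hz)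
      · rw [← (h' (i + 1)).2.1]
        exact mem_cj (B.zl _ kz)
    · have ha2 : n * a' * n⁻¹ ∈ l (i + 1) := by
        rw [← (h' i).2.1]
        exact mem_cj (B.zl _ hz)
      have hb2 : n * b' * n⁻¹ ∈ l (i + 1 + 1) := by
        rw [← (h' (i + 1)).2.1]
        exact mem_cj (B.zl _ kz)
      exact B.one_or ha2 hb2 h2
  rcases h3 with h3 | h3
  · left
    exact hone ha' (hone rfl h3)
  · right
    exact hone hb' (hone rfl h3)

/-- **(0.2)** : a point which meets `l 0 l 1` is `l 0` or `l 1` -/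
theorem fusP (a : Subgroup G) (ha : OM.PT.IsPt l a) (x : G) (hx : x ∈ a) (hx' : x ∈ l 0 ⊔ l 1) (hx1 : x ≠ 1) :
    a = l 0 ∨ a = l 1 := by
  have hc : l 1 ≤ normalizer (l 0 : Set G) := (comm_symm B.com).trans (centralizer_le_normalizer _)
  obtain ⟨y, hy, w, hw, rfl⟩ := Cfsg.Agent.Omega.OM.KTwo.exists_mul_of_mem_sup hc hx'
  obtain ⟨i, k, rfl⟩ := ha
  have h1 : k⁻¹ * (y * w) * k⁻¹⁻¹ ∈ l i := by
    rw [mem_conj] at hx
    rwa [inv_inv]
  rcases B.zero_two (i := 0) (j := i) (g := k⁻¹) hy hw h1 with rfl | rfl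
  · right
    rw [one_mul] at hx hx1
    by_contra hne
    have h2 := B.ti _ _ ⟨i, k, rfl⟩ (OM.PT.isPt l 1) hne
    have h3 : w ∈ MulAut.conj k • l i ⊓ l 1 := ⟨hx, hw⟩
    rw [h2, mem_bot] at h3
    exact hx1 h3
  · left
    rw [mul_one] at hx hx1
    by_contra hne
    have h2 := B.ti _ _ ⟨i, k, rfl⟩ (OM.PT.isPt l 0) hne
    have h3 : y ∈ MulAut.conj k • l i ⊓ l 0 := ⟨hx, hy⟩
    rw [h2, mem_bot] at h3
    exact hx1 h3

omit [Finite G] in
/-- `n ∈ N_G(S) ∩ N_G(l i)` fixes the triples -/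
theorem fx_of {i : Fin 2} {n : G} (hn : n ∈ normalizer (S : Set G)) (hl : n ∈ normalizer (l i : Set G)) : Fx z l U n := by
  rcases B.nS n hn with h | h
  · exact h
  · exfalso
    have h1 := (h i).2.1
    rw [conj_eq_of_mem hl] at h1
    exact B.l_ne i h1

end BT

/-- `C i ≤ N_G(l i)` is transitive on the neighbours and lines of `l i` -/
structure Tra (l U : Fin 2 → Subgroup G) (C : Fin 2 → Subgroup G) : Prop where
  le : ∀ i, C i ≤ normalizer (l i : Set G)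
  tr : ∀ i, ∀ g ∈ normalizer (l i : Set G), ∃ c ∈ C i, MulAut.conj g • l (i + 1) = MulAut.conj c • l (i + 1) ∧
    MulAut.conj g • U i = MulAut.conj c • U i

/-- `S ≤ C i ⊴ N_G(l i)` -/
theorem BT.tra [Finite G] {S : Subgroup G} {z l U : Fin 2 → Subgroup G} (B : BT S z l U) {C : Fin 2 → Subgroup G}
    (hS : ∀ i, S ≤ C i) (hle : ∀ i, C i ≤ normalizer (l i : Set G))
    (hn : ∀ i, normalizer (l i : Set G) ≤ normalizer (C i : Set G)) : Tra l U C := by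
  refine ⟨hle, fun i g hg => ?_⟩
  obtain ⟨x, hx, hn'⟩ := frattini B.syl (hS i) (hn i hg)
  have h1 := B.fx_of hn' (mul_mem (inv_mem (hle i hx)) hg)
  refine ⟨x, hx, ?_, ?_⟩
  · have h2 := (h1 (i + 1)).2.1
    rw [← conj_conj] at h2
    have h3 := inv_cj h2
    rw [inv_inv] at h3
    exact h3.symm
  · have h2 := (h1 i).2.2
    rw [← conj_conj] at h2
    have h3 := inv_cj h2
    rw [inv_inv] at h3
    exact h3.symm

namespace BT

variable [Finite G] {S : Subgroup G} {z l U C : Fin 2 → Subgroup G} (B : BT S z l U) (R : Tra l U C)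

include B R

theorem pair {i j : Fin 2} {k : G} (h : l i = MulAut.conj k • l j) :
    ∃ c ∈ C i, MulAut.conj k • l (j + 1) = MulAut.conj c • l (i + 1) ∧
      MulAut.conj k • U j = MulAut.conj c • U i := by
  rcases PT.eq_or i j with rfl | rfl
  · exact R.tr j k (mem_norm_of_conj h.symm)
  · obtain ⟨s, -, hs⟩ := B.fus (i + 1) k (by rw [PT.add2]; exact h.symm)
    have h1 : MulAut.conj (k * s) • l i = l i := by
      rw [← conj_conj, (hs i).2.1]
      exact h.symm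
    obtain ⟨c, hc, h2, h3⟩ := R.tr i _ (mem_norm_of_conj h1)
    refine ⟨c, hc, ?_, ?_⟩
    · rw [← h2, ← conj_conj, (hs (i + 1)).2.1]
    · rw [← h3, ← conj_conj, (hs i).2.2]

theorem adj_iff {i : Fin 2} {u : Subgroup G} : OM.PT.Adj l (l i) u ↔ ∃ c ∈ C i, u = MulAut.conj c • l (i + 1) := by
  constructor
  · rintro ⟨j, k, h, rfl⟩
    obtain ⟨c, hc, h1, -⟩ := B.pair R h
    exact ⟨c, hc, h1⟩
  · rintro ⟨c, hc, rfl⟩
    exact ⟨i, c, (conj_eq_of_mem (R.le i hc)).symm, rfl⟩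

theorem lnOn_iff {i : Fin 2} {m : Subgroup G} : OM.PT.LnOn l U (l i) m ↔ ∃ c ∈ C i, m = MulAut.conj c • U i := by
  constructor
  · rintro ⟨j, k, h, rfl⟩
    obtain ⟨c, hc, -, h1⟩ := B.pair R h
    exact ⟨c, hc, h1⟩
  · rintro ⟨c, hc, rfl⟩
    exact ⟨i, c, (conj_eq_of_mem (R.le i hc)).symm, rfl⟩

theorem nn_eq (i : Fin 2) : OM.PT.NN l (l i) = NoFF.Basic.V (l (i + 1)) (C i) := by
  apply le_antisymm
  · refine sSup_le fun u hu => ?_
    obtain ⟨c, hc, rfl⟩ := (B.adj_iff R).1 hu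
    exact Z_le_V hc
  · exact V_le fun c hc => ((B.adj_iff R).2 ⟨c, hc, rfl⟩).le_NN

theorem xw_eq (i : Fin 2) :
    OM.PT.XW l U (l i) = NoFF.Basic.V (l (i + 1)) (C i) ⊔ NoFF.Basic.V (U i) (C i) := by
  unfold OM.PT.XW
  rw [B.nn_eq R i]
  congr 1
  apply le_antisymm
  · refine iSup_le fun m => ?_
    obtain ⟨c, hc, h⟩ := (B.lnOn_iff R).1 m.2
    rw [h]
    exact Z_le_V hc
  · exact V_le fun c hc => le_iSup (fun m : {m : Subgroup G // OM.PT.LnOn l U (l i) m} => (m : Subgroup G))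
      ⟨_, (B.lnOn_iff R).2 ⟨c, hc, rfl⟩⟩

end BT

end Cfsg.Agent.Omega.KL.TwoZ

end

section


/-!
# `TwoZ.Fr` gives partner points and lines (`OM/PT`) with points `Z i`, lines `V i` (helper918, TEXT W2 #24006)

* `BF T V Z` : 391's `Fr`, `T` Sylow in `G`, `C_G(m) ≤ N_G(Z i)` (`m ∈ Z i#`), `N_G(T)` permutes the pairs `(Z i, V i)`,
  `[V i, T] ≤ Z i`;
* `BF.bt`, `BF.tra`; `nn_eq`, `xw_eq`, `qq_eq` : `PT.NN = TwoZ.NN`, `PT.XW = W_i N_i`, `O₂(N_G(Z i)) = O₂(C_i)`;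
* `BF.pp : PP Z V`; `BF.ti : TIp Z`; `BF.fus2 : Fus2 Z`; `BF.nop : NoP Z`; `BF.xw_eab`, `BF.xw_le`; `BF.thmC2` (from (G1));
* `BF.l0` : LEMMA 0 for neighbours; `BF.stab`.
-/

set_option autoImplicit false
set_option linter.unusedSectionVars false

namespace Cfsg.Agent.Omega.KL.TwoZ

open Subgroup Cfsg Cfsg.Agent.Omega.MinPar
open Cfsg.Agent.ZN (o2 zc)
open Cfsg.Agent.Omega.OM.KTwo (ne_add_one eq_add_one add_one_add_one le_normalizer_V le_V exists_mul_of_mem_sup)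
open Cfsg.Agent.Omega.NoFF.Basic (conj_conj mem_conj conj_le_iff comm_symm comm_mono Z_le_V V_le conj_le_centralizer)
open Cfsg.Agent.Omega.NOThreeL.Pair (conj_eq_of_mem)
open Cfsg.Agent.ZN.ChoiceSit (Syl exists_syl syl_conj o2_le_syl)
open Cfsg.Agent.MinSimple.VModule (mem_zc zc_le le_o2 o2_isPGroup o2_le le_normalizer_o2)
open Cfsg.Agent.Omega.TC.LemZ (norm_cent)
open Cfsg.Agent.Omega.NO3S.EThree.ExactA (eab_iff eab_sup eab_mono)
open Cfsg.Agent.Omega.OM.PT (PP TIp NoP Fus2 ThmC2 XW Adj IsPt NN_conj XW_conj)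
open Cfsg.Agent.Omega.OM.PG.Peel (Nob)
open Burn
open scoped Pointwise

universe u

variable {G : Type u} [Group G]

/-- the frame with the data for Burnside's lemma -/
structure BF [Finite G] (T : Subgroup G) (V Z : Fin 2 → Subgroup G) : Prop extends Fr T V Z where
  sylG : Syl T ⊤
  ctr : ∀ i, ∀ m ∈ Z i, m ≠ 1 → centralizer ({m} : Set G) ≤ normalizer (Z i : Set G)
  nrm : ∀ n ∈ normalizer (T : Set G), (∀ i, MulAut.conj n • Z i = Z i ∧ MulAut.conj n • V i = V i) ∨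
    (∀ i, MulAut.conj n • Z i = Z (i + 1) ∧ MulAut.conj n • V i = V (i + 1))
  com : ∀ i, ∀ x ∈ V i, ∀ t ∈ T, x * t * x⁻¹ * t⁻¹ ∈ Z i

/-- `(NO)` is invariant under conjugation -/
theorem Burn.nob_cj {N B : Subgroup G} (g : G) (h : Nob (MulAut.conj g • N) (MulAut.conj g • B)) : Nob N B := by
  have e : ∀ A : Subgroup G, centralizer ((MulAut.conj g • A : Subgroup G) : Set G) = MulAut.conj g • centralizer (A : Set G) :=
    fun A => (NoFF.ThmJFam.conj_cent g A).symm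
  unfold Nob at *
  rwa [e, e, relIndex_pointwise_smul, relIndex_pointwise_smul] at h

namespace BF

variable [Finite G] {T : Subgroup G} {V Z : Fin 2 → Subgroup G} (D : BF T V Z)

include D

theorem bt : BT T Z Z V where
  syl := D.sylG
  zS := D.Z_le_zc
  zl := fun _ => le_rfl
  ne := D.ne
  com := (D.Z_cent_T 0).trans (centralizer_le (D.Z_le_T 1))
  dis := (eq_bot_iff_forall _).2 fun x hx => D.dis 0 x (D.ZV 0 hx.1) hx.2
  rep := fun i a ha => ⟨1, one_mem _, one_mem _, by simpa using ha⟩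
  nS := fun n hn => (D.nrm n hn).imp (fun h j => ⟨(h j).1, h j⟩) (fun h j => ⟨(h j).1, h j⟩)
  ctr := D.ctr

theorem tra : Tra Z V (CC Z) :=
  D.bt.tra D.T_le_C (fun _ => centralizer_le_normalizer _) fun i =>
    norm_cent (A := normalizer (Z i : Set G)) (N := Z i) le_rfl

/-- **(0.1)** -/
theorem ti : TIp Z := D.bt.ti

/-- `N_G(Z i) = C_i (N_G(T) ∩ N_G(Z 0) ∩ N_G(Z 1) ∩ N_G(V 0) ∩ N_G(V 1))` -/
theorem norm {i : Fin 2} {g : G} (hg : g ∈ normalizer (Z i : Set G)) :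
    ∃ c ∈ CC Z i, ∃ n ∈ normalizer (T : Set G), (∀ j, n ∈ normalizer (Z j : Set G) ∧ n ∈ normalizer (V j : Set G)) ∧
      g = c * n := by
  obtain ⟨x, hx, hn⟩ := frattini D.sylG (D.T_le_C i)
    (norm_cent (A := normalizer (Z i : Set G)) (N := Z i) le_rfl hg)
  have h1 := D.bt.fx_of hn (mul_mem (inv_mem (centralizer_le_normalizer (Z i : Set G) hx)) hg)
  exact ⟨x, hx, _, hn, fun j => ⟨mem_norm_of_conj (h1 j).1, mem_norm_of_conj (h1 j).2.2⟩, by group⟩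

theorem adj_iff {i : Fin 2} {u : Subgroup G} : Adj Z (Z i) u ↔ ∃ c ∈ CC Z i, u = MulAut.conj c • Z (i + 1) :=
  D.bt.adj_iff D.tra

theorem lnOn_iff {i : Fin 2} {m : Subgroup G} : OM.PT.LnOn Z V (Z i) m ↔ ∃ c ∈ CC Z i, m = MulAut.conj c • V i :=
  D.bt.lnOn_iff D.tra

theorem nn_eq (i : Fin 2) : OM.PT.NN Z (Z i) = NN Z i := D.bt.nn_eq D.tra i

theorem xw_eq (i : Fin 2) : XW Z V (Z i) = WW V Z i ⊔ NN Z i := by
  rw [D.bt.xw_eq D.tra i, sup_comm]

theorem T_syl (i : Fin 2) : Syl T (normalizer (Z i : Set G)) :=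
  ⟨(D.T_le_C i).trans (centralizer_le_normalizer _), D.sylG.2.1, fun R _ hR2 hTR => D.sylG.2.2 R le_top hR2 hTR⟩

/-- `O₂(N_G(Z i)) = O₂(C_i)` -/
theorem qq_eq (i : Fin 2) : OM.PG.QQ (Z i) = QQ Z i := by
  apply le_antisymm
  · exact le_o2 ((o2_le_syl (D.T_syl i)).trans (D.T_le_C i)) (o2_isPGroup _)
      ((centralizer_le_normalizer _).trans (le_normalizer_o2 _))
  · refine le_o2 ((o2_le _).trans (centralizer_le_normalizer _)) (o2_isPGroup _) fun g hg => ?_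
    exact norm_o2_of (norm_cent (A := normalizer (Z i : Set G)) (N := Z i) le_rfl hg)

/-- **`PP Z V`** -/
theorem pp : PP Z V where
  fus := fun i k h => by
    obtain ⟨s, -, hs⟩ := D.bt.fus i k h
    exact ⟨s, fun j => ⟨(hs j).1, (hs j).2.2⟩⟩
  ZU := D.ZV
  UN := fun i => by
    rw [D.nn_eq (i + 1)]
    have h := D.V_le_N (i + 1)
    rwa [OM.PT.add2] at h
  sq := D.Z_sq
  ne := D.ne
  N_le_Q := fun i => by
    rw [D.nn_eq i, D.qq_eq i]
    exact D.N_le_Q i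
  Q_le_cent := fun i => by
    rw [D.nn_eq i, D.qq_eq i]
    exact D.Q_le_cent_N i
  UQ := fun i x hx y hy => by
    rw [D.qq_eq i] at hy
    exact D.com i x hx y (D.Q_le_T i hy)
  nonLoc := fun R hR h1 h2 =>
    D.nonloc R hR ((centralizer_le_normalizer _).trans h1) ((centralizer_le_normalizer _).trans h2)

/-- **(0.2)** -/
theorem fus2 : Fus2 Z := by
  intro a ha x hx hx'
  by_cases hx1 : x = 1
  · left
    rw [hx1]
    exact one_mem _
  · rcases D.bt.fusP a ha x hx hx' hx1 with rfl | rfl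
    · exact Or.inl hx
    · exact Or.inr hx

/-- (0.2), the form of `PcQ` -/
theorem fusP : ∀ a : Subgroup G, IsPt Z a → ∀ x ∈ a, x ∈ Z 0 ⊔ Z 1 → x ≠ 1 → a = Z 0 ∨ a = Z 1 := D.bt.fusP

/-- (0.2) for elements -/
theorem zero_two {i j : Fin 2} {a b g : G} (ha : a ∈ Z i) (hb : b ∈ Z (i + 1)) (hg : g * (a * b) * g⁻¹ ∈ Z j) :
    a = 1 ∨ b = 1 := D.bt.zero_two ha hb hg

theorem xw_eab (i : Fin 2) : IsElementaryAbelian 2 (XW Z V (Z i)) := by
  rw [D.xw_eq i, eab_iff]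
  have h := (D.X_facts i).2.1
  exact ⟨KL.TwoS.comm_of_sq h, h⟩

theorem xw_le (i : Fin 2) : XW Z V (Z i) ≤ OM.PG.QQ (Z i) := by
  rw [D.xw_eq i, D.qq_eq i]
  exact (D.X_facts i).1

/-- **(NO)** -/
theorem nop (hML : ML.Final.MLK.{u, u}) (hK : ∀ i, IsKGroup (CC Z i)) : NoP Z := by
  rintro _ _ ⟨i, k, rfl, rfl⟩ B hB hBQ
  refine nob_cj k⁻¹ ?_
  rw [← NN_conj, conj_conj, inv_mul_cancel, map_one, one_smul]
  have h1 : MulAut.conj k⁻¹ • B ≤ QQ Z i := by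
    rw [← D.qq_eq i]
    have h2 := conj_le_iff (g := k⁻¹) |>.2 hBQ
    rwa [← OM.PG.QQ_conj, conj_conj, inv_mul_cancel, map_one, one_smul] at h2
  rw [D.nn_eq (i + 1)]
  exact D.no_N hML (hK (i + 1)) (h1.trans (D.Q_le_O i)) (sq_conj (eab_iff.1 hB).2)

/-- `ThmC2` from (G1), in the weak form `[X_i, A] ≤ N_i` -/
theorem thmC2 (hG : ∀ i, ∀ A : Subgroup G, A ≤ CC Z i → IsPGroup 2 A →
    (∀ a ∈ A, ∀ x ∈ WW V Z i ⊔ NN Z i, a * x * a⁻¹ * x⁻¹ ∈ NN Z i ⊔ Z i) → A ≤ centralizer (NN Z i : Set G)) :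
    ThmC2 Z (XW Z V) := by
  rintro _ ⟨i, k, rfl⟩ B hB hBc hcom
  have h1 : MulAut.conj k⁻¹ • B ≤ CC Z i := by
    have h2 := conj_le_centralizer (g := k⁻¹) hBc
    rwa [conj_conj, inv_mul_cancel, map_one, one_smul] at h2
  have h3 := hG i (MulAut.conj k⁻¹ • B) h1 (hB.of_equiv (Subgroup.equivSMul (MulAut.conj k⁻¹) B)) ?_
  · have h4 := conj_le_centralizer (g := k) h3
    rwa [conj_conj, mul_inv_cancel, map_one, one_smul, ← D.nn_eq i, ← NN_conj] at h4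
  · intro a ha x hx
    rw [mem_conj, inv_inv] at ha
    rw [← D.xw_eq i] at hx
    have hx' : k * x * k⁻¹ ∈ XW Z V (MulAut.conj k • Z i) := by
      rw [XW_conj]
      exact mem_cj hx
    have h5 := hcom _ hx' _ ha
    rw [NN_conj, D.nn_eq i, mem_conj] at h5
    have e : k⁻¹ * (k * x * k⁻¹ * (k * a * k⁻¹) * (k * x * k⁻¹)⁻¹ * (k * a * k⁻¹)⁻¹) * k = (a * x * a⁻¹ * x⁻¹)⁻¹ := by
      group
    rw [e] at h5
    have h6 := inv_mem h5
    rw [inv_inv] at h6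
    exact mem_sup_left h6

/-- LEMMA 0 for the neighbours -/
theorem l0 {i : Fin 2} {K : Subgroup G} (h : CC Z i ≤ K ⊔ (CC Z i ⊓ normalizer (Z (i + 1) : Set G)))
    (hn : CC Z i ≤ normalizer (K : Set G)) {u u' : Subgroup G} (hu : Adj Z (Z i) u) (hu' : Adj Z (Z i) u') :
    ∃ x ∈ K, MulAut.conj x • u = u' := by
  have key : ∀ u, Adj Z (Z i) u → ∃ x ∈ K, u = MulAut.conj x • Z (i + 1) := by
    intro u hu
    obtain ⟨c, hc, rfl⟩ := D.adj_iff.1 hu
    have h1 : CC Z i ⊓ normalizer (Z (i + 1) : Set G) ≤ normalizer (K : Set G) := inf_le_left.trans hn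
    obtain ⟨x, hx, d, hd, rfl⟩ := exists_mul_of_mem_sup h1 (h hc)
    refine ⟨x, hx, ?_⟩
    rw [← conj_conj x d, conj_eq_of_mem hd.2]
  obtain ⟨x, hx, rfl⟩ := key u hu
  obtain ⟨y, hy, rfl⟩ := key u' hu'
  refine ⟨y * x⁻¹, mul_mem hy (inv_mem hx), ?_⟩
  rw [conj_conj, inv_mul_cancel_right]

end BF

end Cfsg.Agent.Omega.KL.TwoZ

end

section


/-!
# The frame `NF` of TEXT W2 gives all the inputs of `OM/PT` (points `Z i`, lines `V i`)

* `NF.bf : BF T V Z`; `NF.tr : Tr Z V`; `NF.pts : Pts Z V`; `NF.rtU : RtU Z V`; `NF.eabV`;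
* `NF.false_of_pt` : TEXT W2 (8) over the frame: (G1), (4), (7) give a contradiction.
-/

set_option autoImplicit false
set_option linter.unusedSectionVars false

namespace Cfsg.Agent.Omega.KL.TwoZ

open Subgroup Cfsg Cfsg.Agent.Omega.MinPar
open Cfsg.Agent.ZN (o2 zc)
open Cfsg.Agent.Omega.NoFF.Basic (conj_conj mem_conj conj_le_iff comm_symm comm_mono Z_le_V V_le conj_le_centralizer)
open Cfsg.Agent.Omega.NOThreeL.Pair (conj_eq_of_mem)
open Cfsg.Agent.Omega.NO3S.EThree.ExactA (eab_iff)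
open Cfsg.Agent.Omega.OM.PT (Tr Pts RtU XW)
open Burn
open scoped Pointwise

universe u

variable {G : Type u} [Group G]

namespace NF

variable [Finite G] {T : Subgroup G} {V Z : Fin 2 → Subgroup G} (D : NF T V Z)

include D

theorem bf : BF T V Z where
  toFr := D.toFr
  sylG := D.sylG
  ctr := D.ctr
  nrm := D.nrm
  com := fun i x hx t ht => by
    have h1 := inv_mem (D.com i t ht x hx)
    have e : (t * x * t⁻¹ * x⁻¹)⁻¹ = x * t * x⁻¹ * t⁻¹ := by group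
    rwa [e] at h1

theorem exists_ne (i : Fin 2) : ∃ m ∈ Z i, m ≠ 1 := D.bf.bt.exists_ne i

/-- `v ∈ V i#` is conjugate into `Z i` under an element of `C_G(Z (i+1))` normalising `V i` -/
theorem exists_r {i : Fin 2} {v : G} (hv : v ∈ V i) (hv1 : v ≠ 1) :
    ∃ r ∈ CC Z (i + 1), r ∈ normalizer (V i : Set G) ∧ r * v * r⁻¹ ∈ Z i := by
  obtain ⟨j, hij, R, hR, hRj, hRi⟩ := D.exists_par i
  obtain ⟨r, hr, h⟩ := D.tra hij hR hRj hRi v hv hv1
  have hj : j = i + 1 := (OM.PT.eq_or i j).resolve_left hij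
  subst hj
  exact ⟨r, hRj hr, D.uni i (i + 1) hij.symm R hR hRj hRi i hr, h⟩

theorem tr : Tr Z V := by
  intro i k hk
  obtain ⟨m, hm, hm1⟩ := D.exists_ne i
  have h1 : k * m * k⁻¹ ∈ V i := hk (mem_cj hm)
  have h2 : k * m * k⁻¹ ≠ 1 := by
    intro e
    apply hm1
    calc m = k⁻¹ * (k * m * k⁻¹) * k := by group
      _ = 1 := by rw [e]; group
  obtain ⟨r, hr, -, h3⟩ := D.exists_r h1 h2
  have h4 : (r * k) * m * (r * k)⁻¹ ∈ Z i := by
    have e : (r * k) * m * (r * k)⁻¹ = r * (k * m * k⁻¹) * r⁻¹ := by group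
    rwa [e]
  have h5 := (D.bf.bt.fuse hm hm1 h4).1
  refine ⟨r⁻¹, ?_, conj_eq_of_mem (centralizer_le_normalizer _ (inv_mem hr))⟩
  rw [← conj_conj] at h5
  exact inv_cj h5

theorem pts : Pts Z V := by
  intro i x hx hx1
  obtain ⟨r, -, hr, h⟩ := D.exists_r hx hx1
  refine ⟨r⁻¹, ?_, ?_⟩
  · have h1 := conj_le_iff (g := r⁻¹) |>.2 (D.ZV i)
    rwa [conj_eq_of_mem (inv_mem hr)] at h1
  · rw [mem_conj, inv_inv]
    exact h

theorem rtU : RtU Z V := by
  intro i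
  refine ⟨fun y hy v hv hvZ h => ?_, D.card i, fun hle => ?_⟩
  · rw [D.bf.qq_eq i] at hy
    exact D.free i y (D.Q_le_T i hy) v hv hvZ h
  · obtain ⟨m, hm, hm1⟩ := D.exists_ne i
    have h1 : V i = Z i := le_antisymm hle (D.ZV i)
    have h2 := D.card i
    rw [h1] at h2
    have h3 : 0 < Nat.card (Z i) := Nat.card_pos
    have h4 : Nat.card (Z i) = 1 := by
      have h5 : Nat.card (Z i) * 1 = Nat.card (Z i) * Nat.card (Z i) := by rw [mul_one]; exact h2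
      exact (Nat.eq_of_mul_eq_mul_left h3 h5).symm
    rw [Subgroup.card_eq_one] at h4
    exact D.ne i h4

theorem eabV (i : Fin 2) : IsElementaryAbelian 2 (V i) :=
  eab_iff.2 ⟨KL.TwoS.comm_of_sq (D.sqV i), D.sqV i⟩

/-- **TEXT W2 (8)** over the frame -/
theorem false_of_pt (hML : ML.Final.MLK.{u, u}) (hK : ∀ i, IsKGroup (CC Z i))
    (hG : ∀ i, ∀ A : Subgroup G, A ≤ CC Z i → IsPGroup 2 A →
      (∀ a ∈ A, ∀ x ∈ WW V Z i ⊔ NN Z i, a * x * a⁻¹ * x⁻¹ ∈ NN Z i ⊔ Z i) → A ≤ centralizer (NN Z i : Set G))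
    (hI : NN Z 0 ⊓ NN Z 1 ≤ Z 0 ⊔ Z 1)
    (hPC : ∀ i, WW V Z i ⊔ NN Z i ≤ centralizer (NN Z (i + 1) : Set G)) : False := by
  refine OM.PT.false_of_pc D.bf.pp D.tr D.bf.ti D.pts D.eabV D.rtU D.bf.xw_eab D.bf.xw_le (D.bf.nop hML hK)
    (D.bf.thmC2 hG) ?_ D.bf.fus2 fun i => ?_
  · rw [D.bf.nn_eq, D.bf.nn_eq]
    exact hI
  · rw [D.bf.xw_eq, D.bf.nn_eq]
    exact hPC i

end NF

end Cfsg.Agent.Omega.KL.TwoZ

end

end

-- merged: Cfsg.Agent.Mrg.Omega.KL.TwoZ.NFNo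
section

/-!
# TEXT W2 over `NF`: (NO), (G1), `X_i`, `O₂(H_i / C(N_i)) = 1` in the form of `OM/PT` (401's split)

`hnn : ∀ i, PT.NN Z (Z i) = NN Z i`, `hxw : ∀ i, PT.XW Z V (Z i) = W_i N_i`, `ho : ∀ i, O₂(N(Z i)) = O₂(C(Z i))` are the
outputs of `NFNN`, `NFBurn`.

* `NF.nop_of` : `NoP Z`; `NF.g1_of` : `ThmC2 Z (XW Z V)` from (G1);
* `NF.xab_of`, `NF.xle_of` : `X_i` elementary abelian, `≤ Q_i`;
* `NF.core_of` : `CoreP Z i`.
-/

set_option autoImplicit false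
set_option linter.unusedSectionVars false

namespace Cfsg.Agent.Omega.KL.TwoZ

open Subgroup Cfsg Cfsg.Agent.Omega.MinPar
open Cfsg.Agent.ZN (o2 zc)
open Cfsg.Agent.Omega.OM.KTwo (ne_add_one eq_add_one add_one_add_one le_normalizer_V le_V exists_mul_of_mem_sup)
open Cfsg.Agent.Omega.NoFF.Basic (conj_conj mem_conj conj_le_iff comm_symm comm_mono Z_le_V V_le)
open Cfsg.Agent.Omega.NOThreeL.Pair (conj_eq_of_mem)
open Cfsg.Agent.ZN.ChoiceSit (Syl exists_syl syl_conj syl_not_dvd)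
open Cfsg.Agent.MinSimple.VModule (le_o2 o2_isPGroup o2_le le_normalizer_o2)
open Cfsg.Agent.Omega.TC.LemZ (norm_cent le_norm_of)
open Cfsg.Agent.Omega.NO3S.EThree.ExactA (eab_iff)
open Cfsg.Agent.Omega.OM.PG (conj_inv_conj inv_conj_conj QQ_conj)
open scoped Pointwise

universe u

variable {G : Type u} [Group G]

/-- `K ⊴ H`, `T` Sylow in `H` : `T ∩ K` is Sylow in `K` -/
theorem syl_inf_norm [Finite G] {T H K : Subgroup G} (hT : Syl T H) (hKH : K ≤ H)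
    (hn : H ≤ normalizer (K : Set G)) : Syl (T ⊓ K) K := by
  refine ⟨inf_le_right, hT.2.1.to_le inf_le_left, fun Q hQ hQ2 hle => ?_⟩
  obtain ⟨R, hR, hQR⟩ := exists_syl hQ2 (hQ.trans hKH)
  obtain ⟨h, hh, e⟩ := syl_conj hT hR
  have h1 : Q ≤ ZN.ChoiceBase.cj h (T ⊓ K) := by
    rw [ZN.ChoiceBase.cj_inf, e]
    refine le_inf hQR ?_
    have h2 : ZN.ChoiceBase.cj h K = K := ZN.ChoiceBase.mem_normalizer_iff_cj.1 (hn hh)
    rw [h2]
    exact hQ
  have h2 := Subgroup.card_le_of_le h1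
  rw [ZN.ChoiceBase.card_cj] at h2
  exact (Subgroup.eq_of_le_of_card_ge hle h2).symm

/-- `J ⊴ H`, `y² ∈ C` for `y ∈ J`, `J` normalises `C`, `T` Sylow in `H` : `J = (T ∩ J)(J ∩ C)` -/
theorem le_sup_of_sq [Finite G] {T H J C : Subgroup G} (hT : Syl T H) (hJH : J ≤ H)
    (hn : H ≤ normalizer (J : Set G)) (hC : J ≤ normalizer (C : Set G)) (hsq : ∀ y ∈ J, y * y ∈ C) :
    J ≤ (T ⊓ J) ⊔ (J ⊓ C) := by
  have h1 := syl_not_dvd (syl_inf_norm hT hJH hn)
  set M : Subgroup G := (T ⊓ J) ⊔ (J ⊓ C) with hM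
  have h2 : M.relIndex J ∣ (T ⊓ J).relIndex J := relIndex_dvd_of_le_left J le_sup_left
  have h3 : M.relIndex J ∣ C.relIndex J := by
    rw [← inf_relIndex_left J C]
    exact relIndex_dvd_of_le_left J le_sup_right
  have hN : (C.subgroupOf J).Normal := normal_subgroupOf_of_le_normalizer hC
  have hp : IsPGroup 2 (J ⧸ C.subgroupOf J) := by
    intro x
    refine ⟨1, ?_⟩
    induction x using QuotientGroup.induction_on with
    | H y =>
      rw [pow_one, pow_two, ← QuotientGroup.mk_mul, QuotientGroup.eq_one_iff, mem_subgroupOf]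
      exact hsq y y.2
  have hf : Fact (Nat.Prime 2) := ⟨Nat.prime_two⟩
  obtain ⟨n, hn'⟩ := IsPGroup.iff_card.1 hp
  have h4 : C.relIndex J = 2 ^ n := hn'
  rw [h4] at h3
  obtain ⟨k, -, hk⟩ := (Nat.dvd_prime_pow Nat.prime_two).1 h3
  rcases Nat.eq_zero_or_pos k with rfl | hk0
  · rw [pow_zero] at hk
    exact relIndex_eq_one.1 hk
  · exact absurd ((dvd_pow_self 2 hk0.ne').trans (hk ▸ h2)) h1

namespace NF

variable [Finite G] {T : Subgroup G} {V Z : Fin 2 → Subgroup G} (D : NF T V Z)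

include D

/-- **(NO)** -/
theorem nop_of (hML : ML.Final.MLK.{u, u}) (hK : ∀ i, IsKGroup (CC Z i)) (hnn : ∀ i, OM.PT.NN Z (Z i) = NN Z i)
    (ho : ∀ i, o2 (normalizer (Z i : Set G)) = QQ Z i) : OM.PT.NoP Z := by
  rintro _ _ ⟨i, k, rfl, rfl⟩ B hB hBQ
  rw [QQ_conj] at hBQ
  have h1 : MulAut.conj k⁻¹ • B ≤ QQ Z i := by
    have h2 := conj_le_iff (g := k⁻¹) |>.2 hBQ
    rw [inv_conj_conj] at h2
    exact h2.trans (ho i).le
  have h3 := D.toFr.no_N hML (i := i + 1) (A := MulAut.conj k⁻¹ • B) (hK (i + 1)) (h1.trans (D.Q_le_O i))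
    (sq_conj (eab_iff.1 hB).2)
  have h4 : OM.PG.Peel.Nob (OM.PT.NN Z (Z (i + 1))) (MulAut.conj k⁻¹ • B) := by
    rw [hnn]
    exact h3
  have h5 := OM.PG.PeelQ.nob_conj h4 k
  rwa [conj_inv_conj, ← OM.PT.NN_conj] at h5

/-- (G1) -/
theorem g1_of (hnn : ∀ i, OM.PT.NN Z (Z i) = NN Z i) (hxw : ∀ i, OM.PT.XW Z V (Z i) = WW V Z i ⊔ NN Z i)
    (hG : ∀ i, GOne V Z i) : OM.PT.ThmC2 Z (OM.PT.XW Z V) := by
  rintro _ ⟨i, k, rfl⟩ B hB2 hBa hx
  have h1 : MulAut.conj k⁻¹ • B ≤ CC Z i := by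
    have h2 := conj_le_iff (g := k⁻¹) |>.2 hBa
    rwa [← NoFF.ThmJFam.conj_cent, inv_conj_conj] at h2
  have h2 : IsPGroup 2 (MulAut.conj k⁻¹ • B : Subgroup G) :=
    IsPGroup.of_equiv hB2 (Subgroup.equivSMul (MulAut.conj k⁻¹) B)
  have h3 := hG i _ h1 h2 (by
    intro a ha x hxX
    rw [mem_conj, inv_inv] at ha
    have e1 : k * x * k⁻¹ ∈ OM.PT.XW Z V (MulAut.conj k • Z i) := by
      rw [OM.PT.XW_conj, hxw, mem_conj]
      have e : k⁻¹ * (k * x * k⁻¹) * k = x := by group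
      rwa [e]
    have h4 := hx _ e1 _ ha
    rw [OM.PT.NN_conj, hnn, mem_conj] at h4
    have h5 := inv_mem h4
    refine mem_sup_left ?_
    have e : (k⁻¹ * (k * x * k⁻¹ * (k * a * k⁻¹) * (k * x * k⁻¹)⁻¹ * (k * a * k⁻¹)⁻¹) * k)⁻¹ =
        a * x * a⁻¹ * x⁻¹ := by group
    rwa [e] at h5)
  have h4 := conj_le_iff (g := k) |>.2 h3
  rwa [conj_inv_conj, NoFF.ThmJFam.conj_cent, ← hnn, ← OM.PT.NN_conj] at h4

theorem xab_of (hxw : ∀ i, OM.PT.XW Z V (Z i) = WW V Z i ⊔ NN Z i) (i : Fin 2) :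
    IsElementaryAbelian 2 (OM.PT.XW Z V (Z i)) := by
  obtain ⟨-, h2, -, -⟩ := D.toFr.X_facts i
  rw [hxw, eab_iff]
  exact ⟨TwoS.comm_of_sq h2, h2⟩

theorem xle_of (hxw : ∀ i, OM.PT.XW Z V (Z i) = WW V Z i ⊔ NN Z i)
    (ho : ∀ i, o2 (normalizer (Z i : Set G)) = QQ Z i) (i : Fin 2) : OM.PT.XW Z V (Z i) ≤ OM.PG.QQ (Z i) := by
  rw [hxw]
  exact (D.toFr.X_facts i).1.trans (ho i).ge

/-- `O₂(H_i / C(N_i)) = 1`, for squares -/
theorem core_of (hnn : ∀ i, OM.PT.NN Z (Z i) = NN Z i) (i : Fin 2) : OM.PT.Pc.CoreP Z i := by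
  intro J hJ hn hsq
  rw [hnn] at hsq ⊢
  have hC : J ≤ normalizer ((centralizer (NN Z i : Set G) : Subgroup G) : Set G) := by
    refine hJ.trans (norm_cent ?_)
    rw [← hnn]
    exact OM.PT.PP.HH_le_NN (Z i)
  have hT : Syl T (OM.PG.HH (Z i)) := D.sylH ((D.T_le_C i).trans (centralizer_le_normalizer _))
  have h1 := le_sup_of_sq hT hJ hn hC hsq
  have h2 : J ≤ CC Z (i + 1) := by
    refine h1.trans (sup_le (inf_le_left.trans (D.T_le_C (i + 1))) (inf_le_right.trans (centralizer_le (le_V _ _))))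
  exact D.toFr.cent_N_of_le ((centralizer_le_normalizer _).trans hn) h2

end NF

end Cfsg.Agent.Omega.KL.TwoZ

end

-- merged: Cfsg.Agent.Mrg.Omega.KL.TwoZ.PTWOf
section

/-!
# `NF` gives the points-level frame `PTW` (TEXT W2, no field automorphisms)

* `NF.exists_torP` : the torus of a `T`-minimal `R` as elements of odd order, in coordinates;
* `NF.torZP`, `NF.torUP`; `NF.trU`, `NF.htra`;
* `NF.ptw` : **`PTW Z V T`** from (G1), (4) and `4 ≤ |Z 0|` or `4 ≤ |Z 1|`.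
-/

set_option autoImplicit false
set_option linter.unusedSectionVars false

namespace Cfsg.Agent.Omega.KL.TwoZ

open Subgroup Cfsg Cfsg.Agent.Omega.MinPar
open Cfsg.Agent.ZN (o2 zc)
open Cfsg.Agent.Omega.NoFF.Basic (conj_conj mem_conj conj_le_iff comm_symm comm_mono Z_le_V V_le conj_le_centralizer)
open Cfsg.Agent.Omega.NOThreeL.Pair (conj_eq_of_mem)
open Cfsg.Agent.Omega.NO3S.EThree.ExactA (eab_iff)
open Cfsg.Agent.MinSimple.MinParabolic (IsMinPar)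
open Cfsg.Agent.MinSimple.VModule (mem_zc)
open Cfsg.Agent.Omega.TC.LemZ (le_norm_of)
open Burn
open scoped Pointwise

universe u

/-- the elements `≠ 0` of a finite field of characteristic 2 have odd order -/
theorem Burn.odd_order {F : Type} [Field F] [Finite F] (h2 : (2 : F) = 0) (a : Fˣ) : Odd (orderOf a) := by
  by_contra h
  rw [Nat.not_odd_iff_even] at h
  obtain ⟨l, hl⟩ := h
  have hadd : ∀ x : F, x + x = 0 := fun x => by rw [← two_mul, h2, zero_mul]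
  have h1 : a ^ l * a ^ l = 1 := by rw [← pow_add, ← hl, pow_orderOf_eq_one]
  have h3 : ((a : F) ^ l) * ((a : F) ^ l) = 1 := by
    have := congrArg (Units.val) h1
    simpa using this
  have h4 : ((a : F) ^ l - 1) * ((a : F) ^ l - 1) = 0 := by
    have e : ((a : F) ^ l - 1) * ((a : F) ^ l - 1) =
        (a : F) ^ l * (a : F) ^ l - ((a : F) ^ l + (a : F) ^ l) + 1 := by ring
    rw [e, h3, hadd, sub_zero]
    exact hadd 1
  have h5 : (a : F) ^ l = 1 := sub_eq_zero.1 (mul_self_eq_zero.1 h4)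
  have h6 : a ^ l = 1 := Units.ext (by simpa using h5)
  have h7 := Nat.le_of_dvd (Nat.pos_of_ne_zero fun h0 => by
    have := orderOf_pos a
    omega) (orderOf_dvd_of_pow_eq_one h6)
  have h8 := orderOf_pos a
  omega

variable {G : Type u} [Group G]

namespace NF

variable [Finite G] {T : Subgroup G} {V Z : Fin 2 → Subgroup G} (D : NF T V Z)

include D

/-- the torus in coordinates, by elements of odd order -/
theorem exists_torP {i : Fin 2} {F : Type} [Field F] [Finite F] {e : (Fin 2 → F) → G} (hN : NatSL F e (V i) (Z i))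
    {R : Subgroup G} (hA : ActSL F e R) (a : Fˣ) :
    ∃ h ∈ R, Odd (orderOf h) ∧ ∀ v, h * e v * h⁻¹ = e ![(a : F) * v 0, (a : F)⁻¹ * v 1] := by
  obtain ⟨r, hr, hrM⟩ := hA.2 (tor (a : F) a.ne_zero)
  simp only [tor_mulVec] at hrM
  have hpow : ∀ n : ℕ, ∀ v, r ^ n * e v * (r ^ n)⁻¹ = e ![(a : F) ^ n * v 0, ((a : F) ^ n)⁻¹ * v 1] := by
    intro n
    induction n with
    | zero =>
      intro v
      simp only [pow_zero, one_mul, inv_one, mul_one]
      congr 1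
      ext j
      fin_cases j <;> rfl
    | succ n ih =>
      intro v
      have e1 : r ^ (n + 1) * e v * (r ^ (n + 1))⁻¹ = r * (r ^ n * e v * (r ^ n)⁻¹) * r⁻¹ := by
        rw [pow_succ']; group
      rw [e1, ih, hrM]
      congr 1
      ext j
      fin_cases j
      · simp [pow_succ']; ring
      · simp [pow_succ']; ring
  obtain ⟨k, m, hm, hkm⟩ := Nat.exists_eq_two_pow_mul_odd (n := orderOf r) (orderOf_pos r).ne'
  have hcop : Nat.Coprime (2 ^ k) (orderOf a) :=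
    Nat.Coprime.pow_left k (Nat.coprime_two_left.2 (Burn.odd_order (hN.two_eq (D.sqV i)) a))
  obtain ⟨n, hn1, hn2⟩ := Nat.chineseRemainder hcop 0 1
  refine ⟨r ^ n, pow_mem hr n, ?_, fun v => ?_⟩
  · obtain ⟨l, rfl⟩ := (Nat.modEq_zero_iff_dvd).1 hn1
    refine Odd.of_dvd_nat hm (orderOf_dvd_of_pow_eq_one ?_)
    rw [← pow_mul, mul_comm (2 ^ k) l, mul_assoc, ← hkm, mul_comm, pow_mul, pow_orderOf_eq_one, one_pow]
  · have h1 : a ^ n = a := by
      conv_rhs => rw [← pow_one a]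
      exact pow_eq_pow_iff_modEq.2 hn2
    have h2 : (a : F) ^ n = a := by
      have := congrArg Units.val h1
      simpa using this
    rw [hpow, h2]

/-- the torus of `L_i` -/
theorem exists_torus (i : Fin 2) : ∃ (F : Type) (_ : Field F) (_ : Finite F) (e : (Fin 2 → F) → G),
    NatSL F e (V i) (Z i) ∧ ∀ a : Fˣ, ∃ h : G, h ∈ centralizer (V (i + 1) : Set G) ∧ MulAut.conj h • Z i = Z i ∧
      MulAut.conj h • V i = V i ∧ ∀ v, h * e v * h⁻¹ = e ![(a : F) * v 0, (a : F)⁻¹ * v 1] := by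
  obtain ⟨F, iF, iF', e, hN, hR⟩ := D.nat i
  obtain ⟨j, hij, R, h1, h2, h3⟩ := D.exists_par i
  have hj : j = i + 1 := (OM.PT.eq_or i j).resolve_left hij
  subst hj
  refine ⟨F, iF, iF', e, hN, fun a => ?_⟩
  obtain ⟨h, hh, ho, hv⟩ := D.exists_torP hN (hR _ hij R h1 h2 h3) a
  have key : ∀ a : Fˣ, ∀ h : G, (∀ v, h * e v * h⁻¹ = e ![(a : F) * v 0, (a : F)⁻¹ * v 1]) →
      ∀ z ∈ Z i, h * z * h⁻¹ ∈ Z i := by
    intro a h hv z hz
    obtain ⟨c, rfl⟩ := (hN.pt z).1 hz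
    rw [hv]
    rw [hN.mem_Z]
    simp
  refine ⟨h, D.odd i (i + 1) hij.symm R h1 h2 h3 h hh ho, ?_, conj_eq_of_mem (D.uni i (i + 1) hij.symm R h1 h2 h3 i hh), hv⟩
  -- `h` normalises `Z i`
  apply le_antisymm
  · rintro _ ⟨z, hz, rfl⟩
    exact key a h hv z hz
  · intro z hz
    obtain ⟨c, rfl⟩ := (hN.pt z).1 hz
    refine ⟨e ![(a : F)⁻¹ * c, 0], hN.mem_Z.2 rfl, ?_⟩
    change h * e ![(a : F)⁻¹ * c, 0] * h⁻¹ = _
    rw [hv]
    congr 1
    ext j
    fin_cases j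
    · simp
    · simp

theorem torZP (i : Fin 2) : ∀ x ∈ Z i, x ≠ 1 → ∀ y ∈ Z i, y ≠ 1 → ∃ h : G, h ∈ centralizer (V (i + 1) : Set G) ∧
    MulAut.conj h • Z i = Z i ∧ MulAut.conj h • V i = V i ∧ h * x * h⁻¹ = y := by
  obtain ⟨F, iF, iF', e, hN, hT⟩ := D.exists_torus i
  intro x hx hx1 y hy hy1
  obtain ⟨b, rfl⟩ := (hN.pt x).1 hx
  obtain ⟨c, rfl⟩ := (hN.pt y).1 hy
  have hb : b ≠ 0 := by
    rintro rfl
    apply hx1
    rw [hN.eq_one]
    ext j
    fin_cases j <;> rfl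
  have hc : c ≠ 0 := by
    rintro rfl
    apply hy1
    rw [hN.eq_one]
    ext j
    fin_cases j <;> rfl
  obtain ⟨h, h1, h2, h3, h4⟩ := hT (Units.mk0 (c / b) (div_ne_zero hc hb))
  refine ⟨h, h1, h2, h3, ?_⟩
  rw [h4]
  congr 1
  ext j
  fin_cases j
  · simp [hb]
  · simp

theorem torUP (i : Fin 2) : ∀ x ∈ V i, x ∉ Z i → ∀ y ∈ V i, y ∉ Z i → ∃ h : G, h ∈ centralizer (V (i + 1) : Set G) ∧
    MulAut.conj h • Z i = Z i ∧ MulAut.conj h • V i = V i ∧ y⁻¹ * (h * x * h⁻¹) ∈ Z i := by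
  obtain ⟨F, iF, iF', e, hN, hT⟩ := D.exists_torus i
  intro x hx hx1 y hy hy1
  obtain ⟨v, rfl⟩ := (hN.mem x).1 hx
  obtain ⟨w, rfl⟩ := (hN.mem y).1 hy
  rw [hN.mem_Z] at hx1 hy1
  obtain ⟨h, h1, h2, h3, h4⟩ := hT (Units.mk0 (v 1 / w 1) (div_ne_zero hx1 hy1))
  refine ⟨h, h1, h2, h3, ?_⟩
  rw [h4, ← hN.map_neg, ← hN.add, hN.mem_Z]
  simp [hx1]

/-- `v ∈ V i#` lies in a point `Z i ^ l`, `l` fixes `Z (i+1)`, `V i`, `V (i+1)` -/
theorem htra (i : Fin 2) : ∀ x ∈ V i, x ≠ 1 → ∃ l : G, x ∈ MulAut.conj l • Z i ∧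
    MulAut.conj l • Z (i + 1) = Z (i + 1) ∧ MulAut.conj l • V i = V i ∧ MulAut.conj l • V (i + 1) = V (i + 1) := by
  intro x hx hx1
  obtain ⟨j, hij, R, hR, hRj, hRi⟩ := D.exists_par i
  obtain ⟨r, hr, h⟩ := D.tra hij hR hRj hRi x hx hx1
  have hj : j = i + 1 := (OM.PT.eq_or i j).resolve_left hij
  subst hj
  have hn := D.uni i (i + 1) hij.symm R hR hRj hRi
  refine ⟨r⁻¹, ?_, conj_eq_of_mem (centralizer_le_normalizer _ (inv_mem (hRj hr))), conj_eq_of_mem (inv_mem (hn i hr)),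
    conj_eq_of_mem (inv_mem (hn (i + 1) hr))⟩
  rw [mem_conj, inv_inv]
  exact h

/-- a point of type `i` in `V i` -/
theorem trU (i : Fin 2) (k : G) (hk : MulAut.conj k • Z i ≤ V i) :
    ∃ l : G, MulAut.conj l • Z i = MulAut.conj k • Z i ∧ MulAut.conj l • Z (i + 1) = Z (i + 1) ∧
      MulAut.conj l • V i = V i ∧ MulAut.conj l • V (i + 1) = V (i + 1) := by
  obtain ⟨m, hm, hm1⟩ := D.exists_ne i
  have h1 : k * m * k⁻¹ ∈ V i := hk (mem_cj hm)
  have h2 : k * m * k⁻¹ ≠ 1 := by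
    intro e
    apply hm1
    calc m = k⁻¹ * (k * m * k⁻¹) * k := by group
      _ = 1 := by rw [e]; group
  obtain ⟨l, hxl, h3, h4, h5⟩ := D.htra i _ h1 h2
  refine ⟨l, ?_, h3, h4, h5⟩
  by_contra hne
  have h6 := D.bf.ti _ _ ((OM.PT.isPt Z i).conj l) ((OM.PT.isPt Z i).conj k) hne
  have h7 : k * m * k⁻¹ ∈ MulAut.conj l • Z i ⊓ MulAut.conj k • Z i := ⟨hxl, mem_cj hm⟩
  rw [h6, mem_bot] at h7
  exact h2 h7

/-- an element of `N_i` fixed by `T` is in `Z 0 Z 1` -/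
theorem tfix {i : Fin 2} {n : G} (hn : n ∈ NN Z i) (h : ∀ t ∈ T, t * n * t⁻¹ = n) : n ∈ Z 0 ⊔ Z 1 := by
  rw [← D.zT]
  refine mem_zc.2 ⟨D.Q_le_T i (D.N_le_Q i hn), fun t ht => ?_, D.N_sq i n hn⟩
  have h1 := h t ht
  calc t * n = (t * n * t⁻¹) * t := by group
    _ = n * t := by rw [h1]

/-- **the points-level frame** -/
theorem ptw (hML : ML.Final.MLK.{u, u}) (hK : ∀ i, IsKGroup (CC Z i))
    (hG : ∀ i, ∀ A : Subgroup G, A ≤ CC Z i → IsPGroup 2 A →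
      (∀ a ∈ A, ∀ x ∈ WW V Z i ⊔ NN Z i, a * x * a⁻¹ * x⁻¹ ∈ NN Z i ⊔ Z i) → A ≤ centralizer (NN Z i : Set G))
    (hI : NN Z 0 ⊓ NN Z 1 ≤ Z 0 ⊔ Z 1) : OM.PT.PTW Z V T where
  toPP := D.bf.pp
  ti := D.bf.ti
  fus2 := D.bf.fus2
  sqU := D.eabV
  tr := D.trU
  pts := D.pts
  rt := D.rtU
  ab := D.bf.xw_eab
  le := D.bf.xw_le
  cen := fun i => by
    rw [D.bf.qq_eq i]
    exact (D.Q_le_T i).trans (D.T_le_C i)
  no := D.bf.nop hML hK
  g1 := D.bf.thmC2 hG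
  core := D.core_of D.bf.nn_eq
  inter := by
    rw [D.bf.nn_eq, D.bf.nn_eq]
    exact hI
  B2 := D.sylG.2.1
  BH := fun i => (D.T_le_C i).trans (centralizer_le_normalizer _)
  BU := fun i x hx b hb => D.com i b hb x hx
  Bfix := fun i n hn h => by
    rw [D.bf.nn_eq] at hn
    exact D.tfix hn h
  torZ := D.torZP
  torU := D.torUP

end NF

end Cfsg.Agent.Omega.KL.TwoZ

end
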