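import Cfsg.Agent.Mrg.Omega.NO3S.EMany.LowExt
import Cfsg.Agent.Mrg.Omega.KL.TwoZ.Inp
import Cfsg.Agent.Mrg.Omega.KL.TwoZ.FrN

-- merged: Cfsg.Agent.Mrg.Omega.KL.StarQ.Gst
section

/-!
# THEOREM KL*(q) with the odd centre killed by lifts (helper918 #24006 (1) (z)); the abstract half of THEOREM G*

`Y` is pointwise `T`-fixed (but not central), `cG` replaces 'the `T`-fixed vectors of `Y` are fixed by `H`': an odd
`g ∈ N_L(T)` such that `[g, T]` centralises `⟨x^L⟩` centralises `Y`.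

* `exists_of_coreG` : the end of the machine over `LB`, with `O(H) = 1`;
* `InpG T A Z Y` : this situation; **`InpG.exists_sysW`**, **`InpG.exists_sysT`**, **`InpG.false_of`**;
* `PreG` : the same for an `A` which is exact modulo the kernel; **`PreG.inp`** : `PreG → InpG`.
-/

set_option autoImplicit false
set_option linter.unusedSectionVars false

namespace Cfsg.Agent.Omega.KL.StarQ

open Subgroup Cfsg Cfsg.Agent.ZN Cfsg.Agent.ClassTwoFusion.Quad
open Cfsg.Agent.Omega.ML.MinFrame hiding comm_of_sq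
open Cfsg.Agent.Omega.ML.Final Cfsg.Agent.Omega.NO3S.EMany.Low
open Cfsg.Agent.Omega.KL.Star.Core
open Cfsg.Agent.MinSimple.VModule (o2_isPGroup o2_le le_o2 le_normalizer_o2 o2_le_of_sylow oddGen oddGen_le oddGen_def)
open Cfsg.Agent.MinSimple.MinParabolic (IsMinPar le_of_forall)

universe u v

section

variable {H : Type u} [Group H] [Finite H] {M : Type v} [Group M] [Finite M] [MulDistribMulAction H M]
  {T A : Subgroup H}

/-- **the end over `LB`** -/
theorem exists_of_coreG (h : LB H M T A) (hM : MLK.{u, v}) {x : M} (tx : ∀ t ∈ T, t • x = x)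
    {Y : Subgroup M} (tY : ∀ t ∈ T, ∀ w ∈ Y, t • w = w)
    (cG : ∀ g ∈ normalizer (T : Set H), Odd (orderOf g) →
      (∀ t ∈ T, ∀ l : H, (g * t * g⁻¹ * t⁻¹) • l • x = l • x) →
      (∀ w ∈ Y, ∃ w0 : M, (∀ l : H, l • w0 = w0) ∧ w * w0 ∈ orb (⊤ : Subgroup H) x) → ∀ w ∈ Y, g • w = w)
    (hY : ¬ ∀ g : H, Odd (orderOf g) → ∀ w ∈ Y, g • w = w)
    (par : ∀ P : Subgroup H, IsMinPar T P → (∀ p ∈ P, p • x = x) ∨ ∀ g ∈ P, Odd (orderOf g) → ∀ w ∈ Y, g • w = w)
    (mv : ∃ P : Subgroup H, IsMinPar T P ∧ ∃ p ∈ P, p • x ≠ x) :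
    ∃ (H' : Type u) (_ : Group H') (_ : Finite H') (N : Type v) (_ : Group N) (_ : Finite N)
      (_ : MulDistribMulAction H' N) (T' A' : Subgroup H') (x' y' : N), SysW T' A' x' y' ∧
      ∀ K : Subgroup H', K.Normal → Odd (Nat.card K) → K = ⊥ := by
  have hx : ¬ ∀ g : H, g • x = x := by
    obtain ⟨P, -, p, -, hp⟩ := mv
    exact fun hc => hp (hc p)
  have TY : ∀ t ∈ T, ∀ w ∈ Y, t • w ∈ Y := fun t ht w hw => by rw [tY t ht w hw]; exact hw
  obtain ⟨N, i1, i2, i3, A', x', u', c⟩ := core h hM tx hx TY hY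
  -- minimal parabolics
  have hP : ∀ P : Subgroup H, IsMinPar T P → (∀ p ∈ P, p • x' = x') ∨ ∀ p ∈ P, p • u' = u' := by
    intro P hP
    rcases par P hP with h1 | h2
    · exact Or.inl ((c.sx P hP.le).2 h1)
    · right
      have h3 : oddGen P ⊔ T = P := oddGen_sup hP.le
        fun h2 => h.syl (h2.trans (relIndex_dvd_index_of_le hP.le))
      have h4 : P ≤ MulAction.stabilizer H u' := by
        rw [← h3]
        refine sup_le ?_ fun t ht => c.tu t ht
        rw [oddGen_def, closure_le]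
        rintro g ⟨hgP, hgo⟩
        exact c.su g hgo fun w hw => h2 g hgP hgo w hw
      exact fun p hp => h4 hp
  obtain ⟨P, hPm, p, hp, hpx⟩ := mv
  have hPx' : ∃ p ∈ P, p • x' ≠ x' := by
    by_contra hc
    push Not at hc
    exact hpx ((c.sx P hPm.le).1 hc p hp)
  have hPu : ∀ p ∈ P, p • u' = u' := (hP P hPm).resolve_left fun h1 => by
    obtain ⟨q, hq, hqx⟩ := hPx'
    exact hqx (h1 q hq)
  -- shift
  obtain ⟨x1, hx1, hxs⟩ := c.lb.shift c.tx
  obtain ⟨u1, hu1, hus⟩ := c.lb.shift c.tu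
  have tx1 : ∀ t ∈ T, t • x1 = x1 := fun t ht => (hxs t).2 (c.tx t ht)
  have tu1 : ∀ t ∈ T, t • u1 = u1 := fun t ht => (hus t).2 (c.tu t ht)
  have mx1 : ¬ ∀ g : H, g • x1 = x1 := fun hc => c.mx fun g => (hxs g).1 (hc g)
  have mu1 : ¬ ∀ g : H, g • u1 = u1 := fun hc => c.mu fun g => (hus g).1 (hc g)
  obtain ⟨H', j1, j2, N', j3, j4, j5, π, f, B, o, hs⟩ := c.lb.exists_sysW₀ hM tx1 tu1 hx1 hu1 mu1
    (by
      obtain ⟨q, hq, hqx⟩ := hPx'
      exact ⟨P, hPm, ⟨q, hq, fun hc => hqx ((hxs q).1 hc)⟩, fun q hq => (hus q).2 (hPu q hq)⟩)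
    (fun P hP' => by
      rcases hP P hP' with h1 | h1
      · exact ⟨x1, hx1, mx1, fun q hq => (hxs q).2 (h1 q hq)⟩
      · exact ⟨u1, hu1, mu1, fun q hq => (hus q).2 (h1 q hq)⟩)
  refine ⟨H', j1, j2, N', j3, j4, j5, _, B, _, _, hs, fun K hK hKo => ?_⟩
  have hcen := odd_le_center hs hK hKo
  by_contra hne
  obtain ⟨⟨ν, hν⟩, hν1'⟩ := (Subgroup.ne_bot_iff_exists_ne_one).1 hne
  have hν1 : ν ≠ 1 := fun h1 => hν1' (Subtype.ext h1)
  have hνc : ∀ g : H', g * ν = ν * g := fun g => mem_center_iff.1 (hcen hν) g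
  have hνT : ν ∈ normalizer ((T.map π : Subgroup H') : Set H') := by
    rw [mem_normalizer_iff]
    intro g
    rw [← hνc g, mul_inv_cancel_right]
  obtain ⟨_, ⟨t, ht, rfl⟩, n, hn, hνn⟩ := KL.GenTool.exists_normalizer_map π o.πs h.two h.syl hνT
  obtain ⟨a, ha1, ha2⟩ := exists_pow h.two ht n
  set g : H := n ^ 2 ^ a with hg
  have hgN : g ∈ normalizer (T : Set H) := (normalizer (T : Set H)).pow_mem hn _
  have hπg : π g = ν ^ 2 ^ a := by
    have h1 : Commute (π t) ν := hνc _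
    have h2 : π n = (π t)⁻¹ * ν := by rw [hνn]; group
    have h3 : Commute (π t)⁻¹ ν := h1.inv_left
    rw [hg, map_pow, h2, h3.mul_pow, inv_pow, ← map_pow, ha1, map_one, inv_one, one_mul]
  have hπg1 : π g ≠ 1 := by
    rw [hπg]
    intro h1
    apply hν1
    have h2 : orderOf ν ∣ 2 ^ a := orderOf_dvd_of_pow_eq_one h1
    have h3 : orderOf ν ∣ Nat.card K := by
      have := orderOf_dvd_natCard (⟨ν, hν⟩ : K)
      rwa [orderOf_mk] at this
    have h4 : Odd (orderOf ν) := hKo.of_dvd_nat h3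
    have h5 : (2 ^ a).Coprime (orderOf ν) := Nat.Coprime.pow_left a (Nat.coprime_two_left.mpr h4)
    exact orderOf_eq_one_iff.1 (Nat.eq_one_of_dvd_coprimes h5 h2 dvd_rfl)
  have hπc : ∀ k ∈ zpowers g, ∀ s : H', s * π k = π k * s := by
    intro k hk s
    have h1 : zpowers g ≤ (center H').comap π := by
      rw [zpowers_le, mem_comap, hπg]
      exact (center H').pow_mem (hcen hν) _
    exact mem_center_iff.1 (h1 hk) s
  -- the kernel of `π` fixes `x`
  have hkx' : ∀ k ∈ π.ker ⊔ T, k • x1 = x1 := by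
    refine c.lb.fix_of_mod tx1 le_sup_right (I := cv N (Km A' : Set H))
      (fun w hw tw g _ => c.lb.fix_of_cvKm tw hw g) fun k hk => ?_
    have h1 : π k • f ⟨x1, hx1⟩ = f ⟨x1, hx1⟩ := by
      obtain ⟨k1, hk1, s, hs', rfl⟩ := mem_sup_of_normal_left.1 hk
      rw [map_mul, (MonoidHom.mem_ker).1 hk1, one_mul, ← o.eqv s ⟨x1, hx1⟩]
      exact congrArg f (Subtype.ext (tx1 s hs'))
    rw [← o.eqv k ⟨x1, hx1⟩, ← mul_inv_eq_one, ← map_inv, ← map_mul, o.ker] at h1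
    exact h1
  have hkx : ∀ k ∈ π.ker, k • x = x := by
    have h1 : ∀ k ∈ π.ker ⊔ T, k • x' = x' := fun k hk => (hxs k).1 (hkx' k hk)
    exact fun k hk => (c.sx _ le_sup_right).1 h1 k (mem_sup_left hk)
  have hkO : ∀ k ∈ π.ker, ∀ l : H, k • l • x = l • x := by
    intro k hk s
    have h2 := hkx (s⁻¹ * k * s) (by
      have := (inferInstance : (π.ker).Normal).conj_mem k hk s⁻¹
      rwa [inv_inv] at this)
    rwa [mul_smul, mul_smul, inv_smul_eq_iff] at h2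
  -- `g` centralises `Y`
  have hgY : ∀ w ∈ Y, g • w = w := by
    refine cG g hgN ha2 (fun t ht l => hkO _ ?_ l) fun w hw => ?_
    · rw [MonoidHom.mem_ker, map_mul, map_mul, map_mul, map_inv, map_inv, ← hπc g (mem_zpowers g) (π t),
        mul_inv_cancel_right, mul_inv_cancel]
    · obtain ⟨w0, h1, h2⟩ := exists_fix_coset h.sq (R := (⊤ : Subgroup H)) (by rw [relIndex_top_right]; exact h.syl)
        (fun t ht => tY t ht w hw) (fun k _ => h.orb_eq (fun t ht => tY t ht w hw) k)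
      refine ⟨w0, fun l => h1 l (mem_top l), ?_⟩
      have h3 := h.cmm_le hM tx hx h2
      have e : w * w0 = w0 * w⁻¹ := by
        have h4 : w⁻¹ = w := inv_eq_of_mul_eq_one_right (h.sq w)
        rw [h4]
        exact Cfsg.Agent.Omega.NO3S.EMany.Low.comm_of_sq h.sq _ _
      rw [e]
      exact h3
  -- so `π g` fixes the second vector
  have hgu : g • u1 = u1 := (hus g).2 (c.su g ha2 hgY)
  have hfix : π g • f ⟨u1, hu1⟩ = f ⟨u1, hu1⟩ := by
    rw [← o.eqv g ⟨u1, hu1⟩]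
    exact congrArg f (Subtype.ext hgu)
  have hnor : (zpowers (π g)).Normal := by
    refine ⟨fun k hk s => ?_⟩
    have h1 : k ∈ center H' := by
      have h2 : zpowers (π g) ≤ center H' := by
        rw [zpowers_le, hπg]
        exact (center H').pow_mem (hcen hν) _
      exact h2 hk
    rw [mem_center_iff.1 h1 s, mul_inv_cancel_right]
    exact hk
  have h1 := hs.bot_of_fix hnor hs.y1 fun k hk => by
    have h2 : zpowers (π g) ≤ MulAction.stabilizer H' (f ⟨u1, hu1⟩) := by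
      rw [zpowers_le]
      exact hfix
    exact h2 hk
  exact hπg1 (by
    have h2 := mem_zpowers (π g)
    rw [h1] at h2
    exact mem_bot.1 h2)

end

/-- **The input**: `Y` pointwise `T`-fixed, the odd centre is controlled by `cG` -/
structure InpG {H : Type u} [Group H] {M : Type v} [Group M] [MulDistribMulAction H M] (T A : Subgroup H)
    (Z Y : Subgroup M) : Prop where
  sq : ∀ m : M, m * m = 1
  two : IsPGroup 2 T
  syl : ¬ 2 ∣ T.index
  tZ : ∀ z ∈ Z, ∀ t ∈ T, t • z = z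
  NZ : ∀ g ∈ normalizer (T : Set H), ∀ z ∈ Z, g • z ∈ Z
  tY : ∀ t ∈ T, ∀ w ∈ Y, t • w = w
  /-- a `T`-minimal `P` fixes `Z` pointwise, or its elements of odd order centralise `Y` -/
  par : ∀ P : Subgroup H, IsMinPar T P → (∀ z ∈ Z, ∀ p ∈ P, p • z = z) ∨
    ∀ g ∈ P, Odd (orderOf g) → ∀ w ∈ Y, g • w = w
  cG : ∀ L : Subgroup H, T ≤ L → ∀ x ∈ Z, ∀ g ∈ L, g ∈ normalizer (T : Set H) → Odd (orderOf g) →
    (∀ t ∈ T, ∀ l ∈ L, (g * t * g⁻¹ * t⁻¹) • l • x = l • x) →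
    (∀ w ∈ Y, ∃ w0 : M, (∀ l ∈ L, l • w0 = w0) ∧ w * w0 ∈ orb L x) → ∀ w ∈ Y, g • w = w
  el : ∀ a ∈ A, a * a = 1
  exact : (cv M (A : Set H)).index = Nat.card A
  atom : ∀ C : Subgroup H, C ≤ A → C ≠ ⊥ → C ≠ A → Nat.card C < (cv M (C : Set H)).index
  nT : ¬ A ≤ o2 (⊤ : Subgroup H)
  AZ : A ≤ o2 (fxr H Z)
  AY : A ≤ o2 (fxr H Y ⊔ T)
  KH : IsKGroup H

namespace InpG

variable {H : Type u} [Group H] [Finite H] {M : Type v} [Group M] [Finite M] [MulDistribMulAction H M]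
  {T A : Subgroup H} {Z Y : Subgroup M}

omit [Finite M] in
theorem AT (i : InpG T A Z Y) : A ≤ T :=
  i.AZ.trans (o2_le_of_sylow i.two fun h2 => i.syl (h2.trans (relIndex_dvd_index_of_le fun t ht z hz => i.tZ z hz t ht)))

/-- **THEOREM KL*(q).** -/
theorem exists_sysW (i : InpG T A Z Y) (hM : MLK.{u, v}) :
    ∃ (H' : Type u) (_ : Group H') (_ : Finite H') (N : Type v) (_ : Group N) (_ : Finite N)
      (_ : MulDistribMulAction H' N) (T' A' : Subgroup H') (x' y' : N), SysW T' A' x' y' ∧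
      ∀ K : Subgroup H', K.Normal → Odd (Nat.card K) → K = ⊥ := by
  -- `L` minimal
  obtain ⟨L, ⟨hTL, hAL⟩, hmin⟩ : ∃ L : Subgroup H, (T ≤ L ∧ ¬ A ≤ o2 L) ∧
      ∀ R : Subgroup H, (T ≤ R ∧ ¬ A ≤ o2 R) → R ≤ L → R = L := by
    have hfin : {L : Subgroup H | T ≤ L ∧ ¬ A ≤ o2 L}.Finite := Set.toFinite _
    obtain ⟨B, hB⟩ := hfin.exists_minimal ⟨⊤, le_top, i.nT⟩
    exact ⟨B, hB.1, fun C hC hCB => le_antisymm hCB (hB.2 hC hCB)⟩
  have hAT := i.AT
  have hAL' : A ≤ L := hAT.trans hTL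
  have e1 : ∀ {C : Subgroup H}, C ≤ L → (C.subgroupOf L).map L.subtype = C := fun {C} hC => by
    rw [subgroupOf_map_subtype, inf_eq_left.2 hC]
  have hcv : ∀ C : Subgroup L, cv M (C : Set L) = cv M ((C.map L.subtype : Subgroup H) : Set H) := by
    intro C
    ext m
    constructor
    · rintro hm _ ⟨c, hc, rfl⟩
      exact hm c hc
    · exact fun hm c hc => hm _ ⟨c, hc, rfl⟩
  have hcard : ∀ C : Subgroup L, Nat.card (C.map L.subtype) = Nat.card C := fun C =>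
    card_map_of_injective L.subtype_injective
  have hlb : LB L M (T.subgroupOf L) (A.subgroupOf L) := by
    refine ⟨i.sq, i.two.comap_subtype, fun h2 => ?_, fun x hx => hAT hx, fun b hb => Subtype.ext (i.el b hb), ?_, ?_, ?_, ?_,
      sec_KG.sub H i.KH L⟩
    · exact i.syl (h2.trans (relIndex_dvd_index_of_le hTL))
    · rw [hcv, e1 hAL', i.exact, ← hcard, e1 hAL']
    · intro C hC hC1 hCF
      rw [hcv, ← hcard]
      refine i.atom _ ?_ ?_ ?_
      · rintro _ ⟨c, hc, rfl⟩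
        exact hC hc
      · intro h1
        exact hC1 ((Subgroup.map_eq_bot_iff_of_injective _ L.subtype_injective).1 h1)
      · intro h1
        apply hCF
        rw [← h1]
        exact (comap_map_eq_self_of_injective L.subtype_injective C).symm
    · intro R hTR hR
      have h1 : R.map L.subtype ≠ L := by
        intro h2
        apply hR
        rw [eq_top_iff]
        intro r _
        have h3 : (r : H) ∈ R.map L.subtype := by
          rw [h2]
          exact r.2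
        obtain ⟨s, hs, hsr⟩ := h3
        rwa [← (Subtype.ext hsr : s = r)]
      have h2 : T ≤ R.map L.subtype := fun t ht => ⟨⟨t, hTL ht⟩, hTR ht, rfl⟩
      have h3 : A ≤ o2 (R.map L.subtype) := by
        by_contra hc
        exact h1 (hmin _ ⟨h2, hc⟩ (map_subtype_le R))
      exact fun x hx => KL.GenTool.o2_subgroupOf_le R (h3 hx)
    · intro hc
      apply hAL
      have h1 := (map_mono (f := L.subtype) hc).trans (KL.GenTool.o2_map_le L.subtype ⊤)
      rw [e1 hAL', ← MonoidHom.range_eq_map, L.range_subtype] at h1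
      exact h1
  -- normalizers of `T`
  have hNN : ∀ g : L, g ∈ normalizer ((T.subgroupOf L : Subgroup L) : Set L) → (g : H) ∈ normalizer (T : Set H) := by
    intro g hg
    rw [mem_normalizer_iff] at hg ⊢
    intro t
    constructor
    · intro ht
      exact (hg ⟨t, hTL ht⟩).1 ht
    · intro ht
      have h1 : t ∈ L := by
        have h2 := L.mul_mem (L.mul_mem (L.inv_mem g.2) (hTL ht)) g.2
        have e : (g : H)⁻¹ * (g * t * (g : H)⁻¹) * g = t := by group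
        rwa [e] at h2
      exact (hg ⟨t, h1⟩).2 ht
  -- a `T`-minimal subgroup of `L` which moves `Z`
  obtain ⟨P, hPm, hPZ⟩ : ∃ P : Subgroup L, IsMinPar (T.subgroupOf L) P ∧
      ¬ ∀ z ∈ Z, ∀ p ∈ P, p • z = z := by
    by_contra hc
    push Not at hc
    apply hAL
    -- `C_L(Z)` is normal in `L`
    let F : Subgroup H := fxr H Z ⊓ L
    have hTF : T ≤ F := le_inf (fun t ht z hz => i.tZ z hz t ht) hTL
    have h1 : (⊤ : Subgroup L) ≤ (normalizer (F : Set H)).subgroupOf L := by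
      refine le_of_forall (S := T.subgroupOf L) le_top (fun g hg => ?_) fun P hP _ p hp => ?_
      · rw [mem_subgroupOf]
        have hg1 := hNN g hg.2
        have hconj : ∀ k : H, k ∈ normalizer (T : Set H) → k ∈ L → ∀ w ∈ F, k * w * k⁻¹ ∈ F := by
          intro k hk hkL w hw
          refine ⟨fun z hz => ?_, L.mul_mem (L.mul_mem hkL hw.2) (L.inv_mem hkL)⟩
          have h2 := hw.1 _ (i.NZ k⁻¹ (inv_mem hk) z hz)
          rw [mul_smul, mul_smul, h2, smul_inv_smul]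
        rw [mem_normalizer_iff]
        intro w
        refine ⟨hconj g hg1 g.2 w, fun hw => ?_⟩
        have h2 := hconj (g : H)⁻¹ (inv_mem hg1) (L.inv_mem g.2) _ hw
        have e : (g : H)⁻¹ * (g * w * (g : H)⁻¹) * (g : H)⁻¹⁻¹ = w := by group
        rwa [e] at h2
      · rw [mem_subgroupOf]
        exact le_normalizer (show (p : H) ∈ F from ⟨fun z hz => hc P hP z hz p hp, p.2⟩)
    have h2 : L ≤ normalizer (F : Set H) := fun g hg => h1 (mem_top (⟨g, hg⟩ : L))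
    exact (le_inf i.AZ (hAT.trans hTF)).trans
      ((InpG.o2_le_o2_of_le inf_le_left).trans (o2_le_o2 inf_le_right h2))
  push Not at hPZ
  obtain ⟨x, hxZ, p, hp, hpx⟩ := hPZ
  have htx : ∀ t ∈ T.subgroupOf L, t • x = x := fun t ht => i.tZ x hxZ _ ht
  -- `L ≠ C_L(Y) T`
  have hY : ¬ ∀ g : L, Odd (orderOf g) → ∀ w ∈ Y, g • w = w := by
    intro hc
    apply hAL
    have h1 : oddGen L ⊔ T = L := oddGen_sup hTL fun h2 => i.syl (h2.trans (relIndex_dvd_index_of_le hTL))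
    have h2 : L ≤ fxr H Y ⊔ T := by
      rw [← h1]
      refine sup_le_sup_right ?_ T
      rw [oddGen_def, closure_le]
      rintro g ⟨hgL, hgo⟩ w hw
      exact hc ⟨g, hgL⟩ (by rwa [orderOf_mk]) w hw
    exact (le_inf i.AY hAL').trans (InpG.o2_le_o2_of_le h2)
  have horb : orb (⊤ : Subgroup L) x = orb L x := by
    apply le_antisymm
    · exact orb_le fun g _ => smul_mem_orb_self (g := (g : H)) g.2
    · exact orb_le fun g hg => smul_mem_orb_self (R := (⊤ : Subgroup L)) (g := (⟨g, hg⟩ : L)) (mem_top _)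
  refine exists_of_coreG hlb hM htx (Y := Y) (fun t ht w hw => i.tY _ ht w hw)
    (fun g hg hgo h1 h2 w hw => ?_) hY (fun R hR => ?_) ⟨P, hPm, p, hp, hpx⟩
  · refine i.cG L hTL x hxZ g g.2 (hNN g hg) (by rwa [orderOf_coe]) (fun t ht l hl => ?_) (fun w hw => ?_) w hw
    · exact h1 ⟨t, hTL ht⟩ ht ⟨l, hl⟩
    · obtain ⟨w0, h3, h4⟩ := h2 w hw
      exact ⟨w0, fun l hl => h3 ⟨l, hl⟩, by rw [← horb]; exact h4⟩
  rcases i.par _ (KL.GenTool.minPar_map_subtype hTL hR) with h1 | h2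
  · exact Or.inl fun q hq => h1 x hxZ _ ⟨q, hq, rfl⟩
  · refine Or.inr fun g hg hgo w hw => h2 _ ⟨g, hg, rfl⟩ ?_ w hw
    rwa [Subgroup.coe_subtype, orderOf_coe]

/-- **THEOREM KL*(q)**, with the output `Two.SysT` -/
theorem exists_sysT (i : InpG T A Z Y) (hM : MLK.{u, v}) :
    ∃ (H' : Type u) (_ : Group H') (_ : Finite H') (N : Type v) (_ : Group N) (_ : Finite N)
      (_ : MulDistribMulAction H' N) (T' A' : Subgroup H') (x' y' : N), ML.Ex.Two.SysT H' N T' A' x' y' := by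
  obtain ⟨H', i1, i2, N, i3, i4, i5, T', A', x', y', h, ho⟩ := i.exists_sysW hM
  exact ⟨H', i1, i2, N, i3, i4, i5, T', A', x', y', h.sysT ho⟩

/-- **THEOREM KL*(q)**, with EXT -/
theorem false_of (hM : MLK.{u, v}) (hE : ML.Ex.Two.Ext.{u, v}) (i : InpG T A Z Y) : False := by
  obtain ⟨H', i1, i2, N, i3, i4, i5, T', A', x', y', h⟩ := i.exists_sysT hM
  exact hE H' N T' A' x' y' h

end InpG

/-- the input of THEOREM KL*(q) for `C` acting on `M`, with an `A` which is exact modulo the kernel -/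
structure PreG {C : Type u} [Group C] {M : Type v} [Group M] [MulDistribMulAction C M] (T A : Subgroup C)
    (Z Y : Subgroup M) : Prop where
  sq : ∀ m : M, m * m = 1
  two : IsPGroup 2 T
  syl : ¬ 2 ∣ T.index
  tZ : ∀ z ∈ Z, ∀ t ∈ T, t • z = z
  NZ : ∀ g ∈ normalizer (T : Set C), ∀ z ∈ Z, g • z ∈ Z
  tY : ∀ t ∈ T, ∀ w ∈ Y, t • w = w
  par : ∀ P : Subgroup C, IsMinPar T P → (∀ z ∈ Z, ∀ p ∈ P, p • z = z) ∨
    ∀ g ∈ P, Odd (orderOf g) → ∀ w ∈ Y, g • w = w
  cG : ∀ L : Subgroup C, T ≤ L → ∀ x ∈ Z, ∀ g ∈ L, g ∈ normalizer (T : Set C) → Odd (orderOf g) →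
    (∀ t ∈ T, ∀ l ∈ L, (g * t * g⁻¹ * t⁻¹) • l • x = l • x) →
    (∀ w ∈ Y, ∃ w0 : M, (∀ l ∈ L, l • w0 = w0) ∧ w * w0 ∈ orb L x) → ∀ w ∈ Y, g • w = w
  el : ∀ a ∈ A, a * a = 1
  AZ : A ≤ o2 (fxr C Z)
  AY : A ≤ o2 (fxr C Y ⊔ T)
  /-- `A` is faithful on `⟨Z^C⟩` modulo the kernel -/
  nk : ∀ a ∈ A, (∀ (c : C), ∀ z ∈ Z, a • c • z = c • z) → ∀ m : M, a • m = m
  mv : ∃ a ∈ A, ∃ m : M, a • m ≠ m
  no : ∀ B : Subgroup C, B ≤ A → (fxr C (⊤ : Subgroup M)).relIndex B ≤ (cv M (B : Set C)).index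
  le : (cv M (A : Set C)).index ≤ (fxr C (⊤ : Subgroup M)).relIndex A
  KC : IsKGroup C

section pre

variable {C : Type u} [Group C] [Finite C] {M : Type v} [Group M] [Finite M] [MulDistribMulAction C M]
  {T A : Subgroup C} {Z Y : Subgroup M}

theorem PreG.inp (h : PreG T A Z Y) :
    ∃ (H : Type u) (_ : Group H) (_ : Finite H) (_ : MulDistribMulAction H M) (T' A' : Subgroup H),
      InpG T' A' Z Y := by
  have htriv : ∀ k ∈ fxr C (⊤ : Subgroup M), ∀ m : M, k • m = m := fun k hk m => hk m (mem_top m)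
  have hN : (fxr C (⊤ : Subgroup M)).Normal := fxr_normal fun _ _ _ => mem_top _
  set N := fxr C (⊤ : Subgroup M) with hNdef
  let _ : MulDistribMulAction (C ⧸ N) M := quoAct N htriv
  let π : C →* C ⧸ N := QuotientGroup.mk' N
  have hπ : Function.Surjective π := QuotientGroup.mk'_surjective N
  have he : ∀ (g : C) (v : M), π g • v = g • v := fun _ _ => rfl
  have hker : ∀ k : C, (∀ v : M, k • v = v) → π k = 1 := fun k hk =>
    (QuotientGroup.eq_one_iff k).2 fun v _ => hk v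
  have hker2 : ∀ k : C, π k = 1 → ∀ v : M, k • v = v := fun k hk v =>
    (QuotientGroup.eq_one_iff k).1 hk v (mem_top v)
  -- stabilisers
  have hfx : ∀ Y' : Subgroup M, (fxr C Y').map π = fxr (C ⧸ N) Y' := by
    intro Y'
    ext g
    constructor
    · rintro ⟨c, hc, rfl⟩
      exact hc
    · intro hg
      obtain ⟨c, rfl⟩ := hπ g
      exact ⟨c, hg, rfl⟩
  have ho2 : ∀ S : Subgroup C, A ≤ o2 S → A.map π ≤ o2 (S.map π) := by
    intro S hS
    refine (map_mono hS).trans (MinSimple.VModule.le_o2 (map_mono (MinSimple.VModule.o2_le _)) ((o2_isPGroup _).map π) ?_)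
    exact (map_mono (MinSimple.VModule.le_normalizer_o2 _)).trans (le_normalizer_map π)
  have hx : A.map π ≤ o2 (fxr (C ⧸ N) Z) := by
    rw [← hfx]
    exact ho2 _ h.AZ
  have hy : A.map π ≤ o2 (fxr (C ⧸ N) Y ⊔ T.map π) := by
    rw [← hfx, ← Subgroup.map_sup]
    exact ho2 _ h.AY
  have hsyl : ¬ 2 ∣ (T.map π).index := fun h2 => h.syl (h2.trans (index_map_dvd T hπ))
  have hKH : IsKGroup (C ⧸ N) := ML.Final.sec_KG.quo C h.KC N
  have hel : ∀ a ∈ A.map π, a * a = 1 := by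
    rintro _ ⟨a, ha, rfl⟩
    rw [← map_mul, h.el a ha, map_one]
  -- `A.map π` is faithful on `⟨Z^C⟩`
  have hfa : ∀ g ∈ A.map π, (∀ (c : C ⧸ N), ∀ z ∈ Z, g • c • z = c • z) → g = 1 := by
    rintro _ ⟨a, ha, rfl⟩ hg
    exact hker a (h.nk a ha fun c z hz => hg (π c) z hz)
  -- (NO)
  have hcv : ∀ B : Subgroup C, cv M (B.map π : Set (C ⧸ N)) = cv M (B : Set C) := by
    intro B
    ext v
    constructor
    · exact fun hv a ha => hv _ ⟨a, ha, rfl⟩
    · rintro hv _ ⟨a, ha, rfl⟩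
      exact hv a ha
  have hcard : ∀ B : Subgroup C, Nat.card (B.map π) = N.relIndex B := by
    intro B
    rw [← relIndex_bot_left, ← relIndex_comap, MonoidHom.comap_bot, QuotientGroup.ker_mk']
  have hno : ∀ B : Subgroup (C ⧸ N), B ≤ A.map π → Nat.card B ≤ (cv M (B : Set (C ⧸ N))).index := by
    intro B hB
    have e : (A ⊓ B.comap π).map π = B := by
      apply le_antisymm
      · rintro _ ⟨a, ha, rfl⟩
        exact ha.2
      · intro g hg
        obtain ⟨a, ha, rfl⟩ := hB hg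
        exact ⟨a, ⟨ha, hg⟩, rfl⟩
    rw [← e, hcv, hcard]
    exact h.no _ inf_le_left
  have hex : (cv M (A.map π : Set (C ⧸ N))).index = Nat.card (A.map π) := by
    refine le_antisymm ?_ (hno _ le_rfl)
    rw [hcv, hcard]
    exact h.le
  have hA1 : A.map π ≠ ⊥ := by
    intro h1
    obtain ⟨a, ha, m, hm⟩ := h.mv
    apply hm
    refine hker2 a ?_ m
    rw [← mem_bot, ← h1]
    exact ⟨a, ha, rfl⟩
  -- an atom
  obtain ⟨B, ⟨hBA, hB1, hBe⟩, hmin⟩ : ∃ B : Subgroup (C ⧸ N), (B ≤ A.map π ∧ B ≠ ⊥ ∧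
      (cv M (B : Set (C ⧸ N))).index = Nat.card B) ∧ ∀ B' : Subgroup (C ⧸ N), (B' ≤ A.map π ∧ B' ≠ ⊥ ∧
      (cv M (B' : Set (C ⧸ N))).index = Nat.card B') → B' ≤ B → B' = B := by
    obtain ⟨B, hB⟩ := (Set.toFinite {B : Subgroup (C ⧸ N) | B ≤ A.map π ∧ B ≠ ⊥ ∧
      (cv M (B : Set (C ⧸ N))).index = Nat.card B}).exists_minimal ⟨A.map π, le_rfl, hA1, hex⟩
    exact ⟨B, hB.prop, fun B' hB' hle => le_antisymm hle (hB.le_of_le hB' hle)⟩
  have htZ : ∀ z ∈ Z, ∀ t ∈ T.map π, t • z = z := by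
    rintro z hz _ ⟨t, ht, rfl⟩
    exact h.tZ z hz t ht
  refine ⟨C ⧸ N, inferInstance, inferInstance, inferInstance, T.map π, B, ?_⟩
  refine ⟨h.sq, h.two.map π, hsyl, htZ, ?_, ?_, ?_, ?_, fun a ha => hel a (hBA ha), hBe, ?_, ?_, hBA.trans hx,
    hBA.trans hy, hKH⟩
  · intro g hg z hz
    obtain ⟨t, ht, n, hn, rfl⟩ := KL.Quo.norm_lift π hπ h.two h.syl hg
    rw [he, mul_smul]
    exact h.NZ t (le_normalizer ht) _ (h.NZ n hn z hz)
  · rintro _ ⟨t, ht, rfl⟩ w hw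
    exact h.tY t ht w hw
  · intro P hP
    obtain ⟨R, hR, rfl⟩ := Quo.exists_minPar π hπ hP
    rcases h.par R hR with h1 | h1
    · left
      rintro z hz _ ⟨r, hr, rfl⟩
      exact h1 z hz r hr
    · right
      intro g hg hog w hw
      obtain ⟨c, hc, hco, rfl⟩ := TwoZ.exists_odd π hg hog
      exact h1 c hc hco w hw
  · intro L hTL x hx' g hgL hgN hgo h1 h2 w hw
    have h3 : g ∈ (normalizer (T : Set C)).map π := by
      obtain ⟨t, ht, n, hn, rfl⟩ := KL.Quo.norm_lift π hπ h.two h.syl hgN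
      exact ⟨t * n, mul_mem (le_normalizer ht) hn, rfl⟩
    obtain ⟨c, hc, hco, rfl⟩ := TwoZ.exists_odd π h3 hgo
    have horb : orb (L.comap π) x = orb L x := by
      apply le_antisymm
      · exact orb_le fun k hk => smul_mem_orb_self (g := π k) hk
      · refine orb_le fun k hk => ?_
        obtain ⟨k', rfl⟩ := hπ k
        exact smul_mem_orb_self (R := L.comap π) (g := k') hk
    refine h.cG (L.comap π) (map_le_iff_le_comap.1 hTL) x hx' c hgL hc hco (fun t ht l hl => ?_) (fun w hw => ?_) w hw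
    · have := h1 (π t) ⟨t, ht, rfl⟩ (π l) hl
      rwa [← map_inv, ← map_inv, ← map_mul, ← map_mul, ← map_mul] at this
    · obtain ⟨w0, h4, h5⟩ := h2 w hw
      exact ⟨w0, fun l hl => h4 (π l) hl, by rw [horb]; exact h5⟩
  · intro B' hB' hB1' hne
    refine lt_of_le_of_ne (hno B' (hB'.trans hBA)) fun h1 => hne ?_
    exact hmin B' ⟨hB'.trans hBA, hB1', h1.symm⟩ hB'
  · -- `O₂(H)` centralises `⟨Z^H⟩`
    intro hle
    apply hB1
    rw [eq_bot_iff]
    intro b hb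
    rw [mem_bot]
    refine hfa b (hBA hb) fun c z hz => ?_
    have h1 : c⁻¹ * b * c ∈ o2 (⊤ : Subgroup (C ⧸ N)) := by
      have := (mem_normalizer_iff.1 (MinSimple.VModule.le_normalizer_o2 (⊤ : Subgroup (C ⧸ N)) (mem_top c⁻¹)) b).1 (hle hb)
      rwa [inv_inv] at this
    have h2 : o2 (⊤ : Subgroup (C ⧸ N)) ≤ T.map π :=
      MinSimple.VModule.o2_le_of_sylow (h.two.map π) (by rwa [relIndex_top_right])
    have h3 := htZ z hz _ (h2 h1)
    rw [mul_smul, mul_smul, inv_smul_eq_iff] at h3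
    exact h3

end pre

end Cfsg.Agent.Omega.KL.StarQ

end

-- merged: Cfsg.Agent.Mrg.Omega.KL.TwoZ.ThmG
section

/-!
# THEOREM G* (helper918 TEXT W2 #24006 (3))

* `exists_fix_group` : the product of an odd orbit, for sections of a group;
* `FrN.core` : `T ≤ H ≤ C_i`, `N_i = ⟨Z (i+1) ^ H⟩`, every `w ∈ V i` is `H`-fixed modulo `Z_i` up to an element of `N_i Z_i`,
  not `Fail i` : impossible;
* `FrN.no_le` : `V i ≰ N_i Z_i`; **`FrN.g1`** : a 2-subgroup of `C_i` which centralises `X_i / N_i Z_i` centralises `N_i`;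
* `FrN.g2` : `A` maximal in `O` moves `N_i` ⟹ `C_A(N_i)` moves `X_i`;
* **`FrN.g3`** : some maximal `A ≤ Q_i` moves `V i`, both `i`.
-/

set_option autoImplicit false
set_option linter.unusedSectionVars false
set_option linter.unusedVariables false

namespace Cfsg.Agent.Omega.KL.TwoZ

open Subgroup Cfsg Cfsg.Agent.Omega.MinPar
open Cfsg.Agent.ZN (o2 zc)
open Cfsg.Agent.ClassTwoFusion.Quad Cfsg.Agent.Omega.ML.MinFrame
open Cfsg.Agent.Omega.OM.KTwo (ne_add_one eq_add_one add_one_add_one le_normalizer_V le_V exists_mul_of_mem_sup)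
open Cfsg.Agent.MinSimple.MinParabolic (IsMinPar)
open Cfsg.Agent.Omega.NoFF.Basic (conj_conj mem_conj conj_le_iff comm_symm comm_mono Z_le_V V_le)
open Cfsg.Agent.Omega.NOThreeL.Pair (conj_eq_of_mem conj_le_normalizer)
open Cfsg.Agent.Omega.NoFF.ThmJFam (card_sup_inf card_conj conj_cent conj_inf)
open Cfsg.Agent.ZN.ChoiceSit (Syl exists_syl syl_conj o2_le_syl syl_not_dvd)
open Cfsg.Agent.MinSimple.VModule (mem_zc zc_le normalizer_le_normalizer_zc le_o2
  o2_isPGroup o2_le zc_le_centralizer le_centralizer_zc le_normalizer_o2)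
open Cfsg.Agent.Omega.TC (kgroup_mono)
open Cfsg.Agent.Omega.TC.LemZ (card_eq le_norm_of norm_cent norm_inf)
open Cfsg.Agent.Omega.KL.TwoS (Mx sq_sup relIndex_le_of_sup sup_of_relIndex_le relIndex_pos relIndex_mono
  relIndex_anti relIndex_split)
open scoped Pointwise

universe u

variable {G : Type u} [Group G]

/-- the product of an odd orbit, for the section `W / Y` -/
theorem exists_fix_group [Finite G] {C W Y N T : Subgroup G} (nW : C ≤ normalizer (W : Set G))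
    (nY : C ≤ normalizer (Y : Set G)) (WY : W ≤ normalizer (Y : Set G)) (sq : ∀ x ∈ W, x * x ∈ Y) (hYN : Y ≤ N)
    (hTC : ¬ 2 ∣ T.relIndex C) {w : G} (hw : w ∈ W) (hwT : ∀ t ∈ T, t * w * t⁻¹ * w⁻¹ ∈ Y)
    (hwC : ∀ c ∈ C, c * w * c⁻¹ * w⁻¹ ∈ N) : ∃ f ∈ W, (∀ c ∈ C, c * f * c⁻¹ * f⁻¹ ∈ Y) ∧ f * w⁻¹ ∈ N := by
  have hN : (Y.subgroupOf W).Normal := normal_subgroupOf_of_le_normalizer WY
  let _ := ML.Final.conjAct nW nY
  let mk : W →* W ⧸ Y.subgroupOf W := QuotientGroup.mk' (Y.subgroupOf W)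
  have hmk : Function.Surjective mk := QuotientGroup.mk'_surjective _
  have hsm : ∀ (g : C) (x : W) (hx : (g : G) * x * (g : G)⁻¹ ∈ W), g • mk x = mk ⟨(g : G) * x * (g : G)⁻¹, hx⟩ :=
    fun _ _ _ => rfl
  have hmem : ∀ (g : C) (x : W), (g : G) * x * (g : G)⁻¹ ∈ W := fun g x =>
    (mem_normalizer_iff.1 (nW g.2) x).1 x.2
  have hone : ∀ x y : W, mk x = mk y ↔ (x : G) * (y : G)⁻¹ ∈ Y := by
    intro x y
    rw [← mul_inv_eq_one, ← map_inv, ← map_mul, ← MonoidHom.mem_ker, QuotientGroup.ker_mk']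
    exact Iff.rfl
  have hfix : ∀ (g : C) (x : W), g • mk x = mk x ↔ (g : G) * x * (g : G)⁻¹ * (x : G)⁻¹ ∈ Y := by
    intro g x
    rw [hsm g x (hmem g x), hone]
  obtain ⟨m0, h1, h2⟩ := NO3S.EMany.Low.exists_fix_coset (H := C) (M := W ⧸ Y.subgroupOf W) (fun m => by
      obtain ⟨x, rfl⟩ := hmk m
      rw [← map_mul, ← map_one mk, hone]
      simpa using sq x x.2) (T := T.subgroupOf C) (R := ⊤) (by rwa [relIndex_top_right]) (m := mk ⟨w, hw⟩)
    (fun t ht => (hfix t _).2 (hwT _ (mem_subgroupOf.1 ht))) (I := (N.subgroupOf W).map mk)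
    (fun g _ => by
      rw [hsm g ⟨w, hw⟩ (hmem g _), ← map_inv, ← map_mul]
      exact mem_map_of_mem mk (mem_subgroupOf.2 (hwC _ g.2)))
  obtain ⟨f, rfl⟩ := hmk m0
  refine ⟨f, f.2, fun c hc => (hfix ⟨c, hc⟩ f).1 (h1 _ (mem_top _)), ?_⟩
  rw [← map_inv, ← map_mul] at h2
  obtain ⟨n, hn, hnf⟩ := h2
  rw [eq_comm, hone] at hnf
  have h3 := mul_mem (hYN hnf) (mem_subgroupOf.1 hn)
  rw [inv_mul_cancel_right] at h3
  exact h3

namespace FrN

variable [Finite G] {T : Subgroup G} {V Z : Fin 2 → Subgroup G}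

/-- `{x ∈ X_i : [x, h] ∈ Z_i}` -/
def te (D : FrN T V Z) (i : Fin 2) (h : G) : Subgroup G where
  carrier := {x | x ∈ XX V Z i ∧ h * x * h⁻¹ * x⁻¹ ∈ Z i}
  one_mem' := ⟨one_mem _, by simp⟩
  mul_mem' := by
    rintro x y ⟨hx, hx'⟩ ⟨hy, hy'⟩
    refine ⟨mul_mem hx hy, ?_⟩
    have h1 := D.Z_cent_C i (D.X_le_C i hx) hy'
    have e : h * (x * y) * h⁻¹ * (x * y)⁻¹ = (h * x * h⁻¹ * x⁻¹) * (x * (h * y * h⁻¹ * y⁻¹)) * x⁻¹ := by group
    rw [e, h1, ← mul_assoc, mul_inv_cancel_right]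
    exact mul_mem hx' hy'
  inv_mem' := by
    rintro x ⟨hx, hx'⟩
    refine ⟨inv_mem hx, ?_⟩
    have h1 := inv_mem hx'
    have h2 := D.Z_cent_C i (D.X_le_C i hx) h1
    have e : h * x⁻¹ * h⁻¹ * x⁻¹⁻¹ = x⁻¹ * ((h * x * h⁻¹ * x⁻¹)⁻¹ * x) := by group
    rw [e, ← h2, inv_mul_cancel_left]
    exact h1

/-- `{c ∈ C_i : [X_i, c] ≤ N_i Z_i}` -/
def KX (D : FrN T V Z) (i : Fin 2) : Subgroup G where
  carrier := {c | c ∈ CC Z i ∧ ∀ x ∈ XX V Z i, c * x * c⁻¹ * x⁻¹ ∈ NP Z i}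
  one_mem' := ⟨one_mem _, fun x _ => by simp⟩
  mul_mem' := by
    rintro a b ⟨ha, ha'⟩ ⟨hb, hb'⟩
    refine ⟨mul_mem ha hb, fun x hx => ?_⟩
    have e : a * b * x * (a * b)⁻¹ * x⁻¹ = (a * (b * x * b⁻¹ * x⁻¹) * a⁻¹) * (a * x * a⁻¹ * x⁻¹) := by group
    rw [e]
    exact mul_mem ((mem_normalizer_iff.1 (D.C_norm_NP i ha) _).1 (hb' x hx)) (ha' x hx)
  inv_mem' := by
    rintro a ⟨ha, ha'⟩
    refine ⟨inv_mem ha, fun x hx => ?_⟩
    have e : a⁻¹ * x * a⁻¹⁻¹ * x⁻¹ = a⁻¹ * (a * x * a⁻¹ * x⁻¹)⁻¹ * a⁻¹⁻¹ := by group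
    rw [e]
    exact (mem_normalizer_iff.1 (D.C_norm_NP i (inv_mem ha)) _).1 (inv_mem (ha' x hx))

theorem KX_le (D : FrN T V Z) (i : Fin 2) : D.KX i ≤ CC Z i := fun _ hc => hc.1

theorem norm_KX (D : FrN T V Z) (i : Fin 2) : CC Z i ≤ normalizer (D.KX i : Set G) := by
  refine le_norm_of fun g hg c hc => ⟨mul_mem (mul_mem hg hc.1) (inv_mem hg), fun x hx => ?_⟩
  have h1 : g⁻¹ * x * g⁻¹⁻¹ ∈ XX V Z i := (mem_normalizer_iff.1 (D.C_norm_X i (inv_mem hg)) x).1 hx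
  have h2 := (mem_normalizer_iff.1 (D.C_norm_NP i hg) _).1 (hc.2 _ h1)
  have e : g * (c * (g⁻¹ * x * g⁻¹⁻¹) * c⁻¹ * (g⁻¹ * x * g⁻¹⁻¹)⁻¹) * g⁻¹ =
      g * c * g⁻¹ * x * (g * c * g⁻¹)⁻¹ * x⁻¹ := by group
  rwa [e] at h2

/-- `[f, L] ≤ Z_i` ⟹ `L'` centralises `f` -/
theorem com_van (D : FrN T V Z) {i : Fin 2} {L : Subgroup G} (hL : L ≤ CC Z i) {f : G}
    (hf : ∀ l ∈ L, l * f * l⁻¹ * f⁻¹ ∈ Z i) {a b : G} (ha : a ∈ L) (hb : b ∈ L) :
    (a * b * a⁻¹ * b⁻¹) * f * (a * b * a⁻¹ * b⁻¹)⁻¹ = f := by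
  have key : ∀ x ∈ L, ∀ y ∈ L, (x * y) * f * (x * y)⁻¹ = (y * f * y⁻¹ * f⁻¹) * (x * f * x⁻¹ * f⁻¹) * f := by
    intro x hx y hy
    have h1 := D.Z_cent_C i (hL hx) (hf y hy)
    calc (x * y) * f * (x * y)⁻¹ = (x * (y * f * y⁻¹ * f⁻¹)) * f * x⁻¹ := by group
      _ = (y * f * y⁻¹ * f⁻¹) * (x * f * x⁻¹ * f⁻¹) * f := by rw [h1]; group
  have h1 := key _ (inv_mem ha) _ (inv_mem hb)
  have h2 := key _ (inv_mem hb) _ (inv_mem ha)
  have h3 := D.Z_cent_C i (D.T_le_C i (D.Z_le_T i (hf _ (inv_mem ha)))) (hf _ (inv_mem hb))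
  rw [← h3, ← h2] at h1
  calc (a * b * a⁻¹ * b⁻¹) * f * (a * b * a⁻¹ * b⁻¹)⁻¹ = a * b * (a⁻¹ * b⁻¹ * f * (a⁻¹ * b⁻¹)⁻¹) * (a * b)⁻¹ := by group
    _ = f := by rw [h1]; group

/-- the core of THEOREM G* -/
theorem core (hML : ML.Final.MLK.{u, u}) (hE : ML.Ex.Two.Ext.{u, u}) (D : FrN T V Z) {i : Fin 2} (hK : IsKGroup (CC Z i))
    (hF : ¬ Fail T V Z i) {H : Subgroup G} (hT : T ≤ H) (hH : H ≤ CC Z i) (hNH : NN Z i ≤ NH Z i H)
    (hf : ∀ w ∈ V i, ∃ f ∈ XX V Z i, (∀ h ∈ H, h * f * h⁻¹ * f⁻¹ ∈ Z i) ∧ f * w⁻¹ ∈ NP Z i) : False := by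
  have hji := (ne_add_one i).symm
  unfold Fail at hF
  push Not at hF
  obtain ⟨A, hA, -, hm⟩ := hF
  obtain ⟨hB1, hB2, -⟩ := D.ex_U hML hK hA
  set B : Subgroup G := A ⊓ centralizer (UU V Z i : Set G) with hB
  have hBO : B ≤ o2 (centralizer (zc T : Set G)) := inf_le_left.trans hA.le
  have hBsq : ∀ b ∈ B, b ^ 2 = 1 := fun b hb => hA.sq b hb.1
  have hBT : B ≤ T := hBO.trans D.O_le_T
  have hBH : B ≤ H := hBT.trans hT
  have hBC : B ≤ CC Z i := hBH.trans hH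
  have hXC := D.X_le_C i
  have hVX : V i ≤ XX V Z i := (le_V _ _).trans le_sup_left
  have hZN : Z (i + 1) ≤ NN Z i := le_V _ _
  have hNNP : NN Z i ≤ NP Z i := le_sup_left
  have hZP : Z (i + 1) ≤ NP Z i := hZN.trans hNNP
  have hSH : Syl T H := ⟨hT, D.T_isPGroup, fun R hR hR2 hTR => (D.syl i).2.2 R (hR.trans hH) hR2 hTR⟩
  -- the section
  have nW : H ≤ normalizer (NP Z i : Set G) := hH.trans (D.C_norm_NP i)
  have nY : H ≤ normalizer (Z i : Set G) := hH.trans (D.C_norm_Z i)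
  have WY : NP Z i ≤ normalizer (Z i : Set G) := ((D.NP_le_X i).trans hXC).trans (D.C_norm_Z i)
  have hN : ((Z i).subgroupOf (NP Z i)).Normal := normal_subgroupOf_of_le_normalizer WY
  let _ := ML.Final.conjAct nW nY
  let mk : NP Z i →* NP Z i ⧸ (Z i).subgroupOf (NP Z i) := QuotientGroup.mk' ((Z i).subgroupOf (NP Z i))
  have hmk : Function.Surjective mk := QuotientGroup.mk'_surjective _
  have hsm : ∀ (g : H) (x : NP Z i) (hx : (g : G) * x * (g : G)⁻¹ ∈ NP Z i), g • mk x = mk ⟨(g : G) * x * (g : G)⁻¹, hx⟩ :=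
    fun _ _ _ => rfl
  have hmem : ∀ (g : H) (x : NP Z i), (g : G) * x * (g : G)⁻¹ ∈ NP Z i := fun g x =>
    (mem_normalizer_iff.1 (nW g.2) x).1 x.2
  have hone : ∀ x y : NP Z i, mk x = mk y ↔ (x : G) * (y : G)⁻¹ ∈ Z i := by
    intro x y
    rw [← mul_inv_eq_one, ← map_inv, ← map_mul, ← MonoidHom.mem_ker, QuotientGroup.ker_mk']
    exact Iff.rfl
  have hfix : ∀ (g : H) (x : NP Z i), g • mk x = mk x ↔ (g : G) * x * (g : G)⁻¹ * (x : G)⁻¹ ∈ Z i := by
    intro g x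
    rw [hsm g x (hmem g x), hone]
  -- `F`, `YS`
  let F : Subgroup G := tl (XX V Z i) (Z i) H (fun x hx y hy => D.Z_cent_C i (hXC hx) hy)
    (fun a ha y hy => D.Z_cent_C i (hH ha) hy)
  have hFX : F ≤ XX V Z i := fun x hx => hx.1
  have hFte : ∀ h ∈ H, F ≤ D.te i h := fun h hh x hx => ⟨hx.1, hx.2 h hh⟩
  let YS : Subgroup G := NP Z i ⊓ (V i ⊔ F)
  have hYS : ∀ n ∈ YS, ∃ w ∈ V i, ∃ f ∈ F, n = w * f := fun n hn =>
    exists_mul_of_mem_sup (((comm_mono (TwoS.comm_of_sq (D.X_sq i)) hFX hVX)).trans (centralizer_le_normalizer _)) hn.2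
  have hVY : ∀ w ∈ V i, ∃ f ∈ F, w⁻¹ * f ∈ YS := by
    intro w hw
    obtain ⟨f, h1, h2, h3⟩ := hf w hw
    refine ⟨f, ⟨h1, h2⟩, ?_, mul_mem (mem_sup_left (inv_mem hw)) (mem_sup_right (show f ∈ F from ⟨h1, h2⟩))⟩
    rw [D.X_comm i (inv_mem (hVX hw)) h1]
    exact h3
  set Z' : Subgroup (NP Z i ⧸ (Z i).subgroupOf (NP Z i)) := ((Z (i + 1)).subgroupOf (NP Z i)).map mk with hZ'
  set Y' : Subgroup (NP Z i ⧸ (Z i).subgroupOf (NP Z i)) := (YS.subgroupOf (NP Z i)).map mk with hY'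
  -- `h` fixes `Y'` iff `[V i, h] ≤ Z_i`
  have hfY : ∀ h : H, (∀ w ∈ V i, (h : G) * w * (h : G)⁻¹ * w⁻¹ ∈ Z i) → ∀ y ∈ Y', h • y = y := by
    rintro h hh _ ⟨n, hn, rfl⟩
    rw [hfix]
    obtain ⟨w, hw, f, hf', e⟩ := hYS n (mem_subgroupOf.1 hn)
    have h1 : w * f ∈ D.te i h := mul_mem (show w ∈ D.te i h from ⟨hVX hw, hh w hw⟩) (hFte h h.2 hf')
    rw [← e] at h1
    exact h1.2
  have hfY' : ∀ h : H, (∀ y ∈ Y', h • y = y) → ∀ w ∈ V i, (h : G) * w * (h : G)⁻¹ * w⁻¹ ∈ Z i := by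
    intro h hh w hw
    obtain ⟨f, hf', hn⟩ := hVY w hw
    have h1 := (hfix h ⟨w⁻¹ * f, hn.1⟩).1 (hh _ (mem_map_of_mem mk (mem_subgroupOf.2 hn)))
    have h2 : w⁻¹ * f ∈ D.te i h := ⟨D.NP_le_X i hn.1, h1⟩
    have h3 : w⁻¹ ∈ D.te i h := by
      have := mul_mem h2 (inv_mem (hFte h h.2 hf'))
      rwa [mul_inv_cancel_right] at this
    have h4 := inv_mem h3
    rw [inv_inv] at h4
    exact h4.2
  -- stabilisers
  have hfZ : ∀ h : H, h ∈ fxr H Z' ↔ (h : G) ∈ centralizer (zc T : Set G) := by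
    intro h
    constructor
    · intro hh
      refine D.mem_D (hH h.2) (mem_centralizer_iff.2 fun z hz => ?_)
      have h1 := (hfix h ⟨z, hZP hz⟩).1 (hh _ (mem_map_of_mem mk (mem_subgroupOf.2 hz)))
      have h2 := D.sep i h (hH h.2) z hz h1
      exact (eq_mul_of_mul_inv_eq h2).symm
    · rintro hh _ ⟨z, hz, rfl⟩
      rw [hfix]
      have h1 := mem_centralizer_iff.1 (D.cent_zc_le (i + 1) hh) z (mem_subgroupOf.1 hz)
      rw [← h1, mul_inv_cancel_right, mul_inv_cancel]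
      exact one_mem _
  have hcN : ∀ h : H, (∀ (c : H), ∀ z ∈ Z', h • c • z = c • z) → (h : G) ∈ centralizer (NN Z i : Set G) := by
    intro h hh
    refine centralizer_le hNH (D.cent_of_mod hH (hH h.2) fun l hl m hm' => ?_)
    have h1 := hh ⟨l, hl⟩ _ (mem_map_of_mem mk (mem_subgroupOf.2 (show ((⟨m, hZP hm'⟩ : NP Z i) : G) ∈ Z (i + 1) from hm')))
    rw [hsm ⟨l, hl⟩ ⟨m, hZP hm'⟩ (hmem _ _)] at h1
    exact (hfix h _).1 h1
  have hcM : ∀ h : H, (h : G) ∈ centralizer (NN Z i : Set G) → ∀ m : NP Z i ⧸ (Z i).subgroupOf (NP Z i), h • m = m := by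
    intro h hh m
    obtain ⟨x, rfl⟩ := hmk m
    rw [hfix]
    obtain ⟨n, hn, z, hz, e⟩ := exists_mul_of_mem_sup ((((D.Z_le_X i).trans hXC)).trans (le_normalizer_V _ _)) x.2
    have h1 := mem_centralizer_iff.1 hh n hn
    have h2 := D.Z_cent_C i (hH h.2) hz
    rw [e]
    have e2 : (h : G) * (n * z) * (h : G)⁻¹ * (n * z)⁻¹ = 1 := by
      calc (h : G) * (n * z) * (h : G)⁻¹ * (n * z)⁻¹ = (h * n) * z * (h : G)⁻¹ * (n * z)⁻¹ := by group
        _ = n * (h * z) * (h : G)⁻¹ * (n * z)⁻¹ := by rw [← h1]; group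
        _ = 1 := by rw [h2]; group
    rw [e2]
    exact one_mem _
  have hnT : ∀ g : H, g ∈ normalizer ((T.subgroupOf H : Subgroup H) : Set H) →
      (g : G) ∈ CC Z i ⊓ normalizer (T : Set G) := by
    intro g hg
    refine mem_inf.2 ⟨hH g.2, ?_⟩
    rw [mem_normalizer_iff]
    intro t
    constructor
    · intro ht
      exact (mem_normalizer_iff.1 hg ⟨t, hT ht⟩).1 ht
    · intro ht
      have h1 : (g : G)⁻¹ * ((g : G) * t * (g : G)⁻¹) * (g : G)⁻¹⁻¹ ∈ T :=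
        (mem_normalizer_iff.1 (inv_mem hg) ⟨(g : G) * t * (g : G)⁻¹, hT ht⟩).1 ht
      have e : (g : G)⁻¹ * ((g : G) * t * (g : G)⁻¹) * (g : G)⁻¹⁻¹ = t := by group
      rwa [e] at h1
  have hTt : ∀ t : H, (t : G) ∈ T → ∀ y ∈ Y', t • y = y := fun t ht =>
    hfY t fun w hw => D.com i w hw t ht
  have hcv : ∀ A' : Subgroup H, ∀ hA' : A'.map H.subtype ≤ CC Z i, (cv (NP Z i ⧸ (Z i).subgroupOf (NP Z i)) (A' : Set H)).index =
      (D.tN i hA').relIndex (NP Z i) := by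
    intro A' hA'
    rw [← index_comap_of_surjective _ hmk, relIndex]
    congr 1
    ext x
    rw [mem_subgroupOf, mem_comap]
    constructor
    · intro h1
      refine ⟨x.2, ?_⟩
      rintro _ ⟨a, ha, rfl⟩
      exact (hfix a x).1 (h1 a ha)
    · rintro ⟨-, h2⟩ a ha
      exact (hfix a x).2 (h2 a ⟨a, ha, rfl⟩)
  have hfxt : fxr H (⊤ : Subgroup (NP Z i ⧸ (Z i).subgroupOf (NP Z i))) = (centralizer (NN Z i : Set G)).subgroupOf H := by
    ext h
    rw [mem_subgroupOf]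
    constructor
    · exact fun hh => hcN h fun c z _ => hh _ (mem_top _)
    · exact fun hh m _ => hcM h hh m
  have hrel : ∀ A' : Subgroup H, (fxr H (⊤ : Subgroup (NP Z i ⧸ (Z i).subgroupOf (NP Z i)))).relIndex A' =
      (centralizer (NN Z i : Set G)).relIndex (A'.map H.subtype) := by
    intro A'
    rw [hfxt, subgroupOf, relIndex_comap]
  have eB : (B.subgroupOf H).map H.subtype = B := by
    rw [subgroupOf_map_subtype, inf_eq_left.2 hBH]
  have hP : StarQ.PreG (C := H) (M := NP Z i ⧸ (Z i).subgroupOf (NP Z i)) (T.subgroupOf H) (B.subgroupOf H) Z' Y' := by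
    refine ⟨?_, ?_, ?_, ?_, ?_, ?_, ?_, ?_, ?_, ?_, ?_, ?_, ?_, ?_, ?_, ?_⟩
    · intro m
      obtain ⟨x, rfl⟩ := hmk m
      rw [← map_mul, ← map_one mk, hone]
      have h1 := D.X_sq i x (D.NP_le_X i x.2)
      rw [pow_two] at h1
      change (x : G) * x * (1 : G)⁻¹ ∈ Z i
      rw [h1, inv_one, mul_one]
      exact one_mem _
    · exact D.T_isPGroup.comap_of_injective H.subtype H.subtype_injective
    · exact syl_not_dvd hSH
    · rintro _ ⟨z, hz, rfl⟩ t ht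
      rw [hfix]
      have h1 := mem_centralizer_iff.1 (D.T_le_C (i + 1) (mem_subgroupOf.1 ht)) z (mem_subgroupOf.1 hz)
      rw [← h1, mul_inv_cancel_right, mul_inv_cancel]
      exact one_mem _
    · rintro g hg _ ⟨z, hz, rfl⟩
      rw [hsm g z (hmem g z)]
      refine mem_map_of_mem mk (mem_subgroupOf.2 ?_)
      exact (mem_normalizer_iff.1 (D.nT i (hnT g hg)).1.1 z).1 (mem_subgroupOf.1 hz)
    · exact fun t ht => hTt t (mem_subgroupOf.1 ht)
    · intro P hP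
      have hR := Plug.minPar_map hT hP
      have hRC : P.map H.subtype ≤ CC Z i := (map_subtype_le P).trans hH
      by_cases hRm : P.map H.subtype ≤ CC Z (i + 1)
      · left
        rintro _ ⟨z, hz, rfl⟩ p hp
        rw [hfix]
        have h1 := mem_centralizer_iff.1 (hRm (mem_map_of_mem H.subtype hp)) z (mem_subgroupOf.1 hz)
        have h2 : (z : G) * p = p * z := h1
        rw [← h2, mul_inv_cancel_right, mul_inv_cancel]
        exact one_mem _
      · right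
        intro g hg hog
        have h1 := D.odd (i + 1) i hji _ hR hRC hRm g (mem_map_of_mem H.subtype hg) (by rwa [orderOf_coe])
        refine hfY g fun w hw => ?_
        rw [← mem_centralizer_iff.1 h1 w hw, mul_inv_cancel_right, mul_inv_cancel]
        exact one_mem _
    · -- `cG`
      rintro L hTL _ ⟨z, hz, rfl⟩ g hgL hgN hgo h1 h2
      have hLi : L.map H.subtype ≤ CC Z i := (map_subtype_le L).trans hH
      -- elements of `L` which fix the orbit of `z`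
      have horb : ∀ s : H, (∀ l ∈ L, s • l • mk z = l • mk z) → ∀ n : NP Z i, mk n ∈ orb L (mk z) →
          (n : G) * s = s * n := by
        intro s hs n hn
        have h3 : orb L (mk z) ≤ ((centralizer ({(s : G)} : Set G)).subgroupOf (NP Z i)).map mk := by
          refine orb_le fun l hl => ?_
          have h4 := hs l hl
          rw [hsm l z (hmem l z)] at h4 ⊢
          rw [hfix] at h4
          refine mem_map_of_mem mk (mem_subgroupOf.2 ?_)
          have h5 := D.sep' i (hH s.2) (hH l.2) (mem_subgroupOf.1 hz) h4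
          rw [mem_centralizer_singleton_iff]
          exact (eq_mul_of_mul_inv_eq h5).symm
        obtain ⟨y, hy, hyn⟩ := h3 hn
        have h4 := (hone n y).1 hyn.symm
        have h5 := mem_centralizer_singleton_iff.1 (mem_subgroupOf.1 hy)
        have h6 := D.Z_cent_C i (hH s.2) h4
        have h7 : (y : G) * s = s * y := h5
        calc (n : G) * s = ((n : G) * (y : G)⁻¹) * (y * s) := by group
          _ = (((n : G) * (y : G)⁻¹) * s) * y := by rw [h7]; group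
          _ = s * n := by rw [← h6]; group
      have hgN' := hnT g hgN
      have hgV := (D.nT i hgN').1.2
      -- `s = [g, t]` centralises `V i`
      have hs : ∀ t ∈ T, ∀ w ∈ V i, ((g : G) * t * (g : G)⁻¹ * t⁻¹) * w = w * ((g : G) * t * (g : G)⁻¹ * t⁻¹) := by
        intro t ht w hw
        have htL : (⟨t, hT ht⟩ : H) ∈ L := hTL (mem_subgroupOf.2 ht)
        set s : H := g * ⟨t, hT ht⟩ * g⁻¹ * (⟨t, hT ht⟩ : H)⁻¹ with hsdef
        have hsG : (s : G) = (g : G) * t * (g : G)⁻¹ * t⁻¹ := rfl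
        obtain ⟨f, hf', hn⟩ := hVY w hw
        obtain ⟨w0, h3, h4⟩ := h2 (mk ⟨w⁻¹ * f, hn.1⟩) (mem_map_of_mem mk (mem_subgroupOf.2 hn))
        obtain ⟨n0, rfl⟩ := hmk w0
        rw [← map_mul] at h4
        have h5 := horb s (fun l hl => h1 _ (mem_subgroupOf.2 ht) l hl) _ h4
        have h5' : (w⁻¹ * f * (n0 : G)) * s = s * (w⁻¹ * f * (n0 : G)) := h5
        have h6 : (s : G) * f * (s : G)⁻¹ = f := D.com_van hH hf'.2 g.2 (hT ht)
        have h7 : (s : G) * n0 * (s : G)⁻¹ = n0 := by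
          refine D.com_van (L := L.map H.subtype) hLi ?_ (mem_map_of_mem H.subtype hgL) (mem_map_of_mem H.subtype htL)
          rintro _ ⟨l, hl, rfl⟩
          exact (hfix l n0).1 (h3 l hl)
        have h8 : (s : G) * f = f * s := eq_mul_of_mul_inv_eq h6
        have h9 : (s : G) * n0 = n0 * s := eq_mul_of_mul_inv_eq h7
        have h10 : Commute (s : G) (w⁻¹ * f * (n0 : G)) := h5'.symm
        have h11 : Commute (s : G) w⁻¹ := by
          have e : w⁻¹ = (w⁻¹ * f * (n0 : G)) * (n0 : G)⁻¹ * f⁻¹ := by group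
          rw [e]
          exact (h10.mul_right (show Commute (s : G) n0 from h9).inv_right).mul_right (show Commute (s : G) f from h8).inv_right
        have h12 : Commute (s : G) w := by
          have := h11.inv_right
          rwa [inv_inv] at this
        rw [← hsG]
        exact h12
      -- `g` centralises `V i / Z_i`
      refine hfY g fun w hw => D.cV i _ ?_ ?_
      · exact mul_mem ((mem_normalizer_iff.1 hgV w).1 hw) (inv_mem hw)
      · rw [mem_centralizer_iff]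
        intro t ht
        have hVab := TwoS.comm_of_sq (D.sqV i)
        have hab : ∀ a ∈ V i, ∀ b ∈ V i, a * b = b * a := fun a ha b hb => mem_centralizer_iff.1 (hVab hb) a ha
        have hgw : (g : G) * w * (g : G)⁻¹ ∈ V i := (mem_normalizer_iff.1 hgV w).1 hw
        have htw : t * w * t⁻¹ ∈ V i := (mem_normalizer_iff.1 (D.nV i ht) w).1 hw
        set u : G := (g : G) * w * (g : G)⁻¹ * w⁻¹ with hu
        have huV : u ∈ V i := mul_mem hgw (inv_mem hw)
        have hc := D.com i w hw t ht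
        set c : G := t * w * t⁻¹ * w⁻¹ with hcdef
        -- `g t w t⁻¹ g⁻¹ = t g w g⁻¹ t⁻¹`
        have e1 : (g : G) * t * w * ((g : G) * t)⁻¹ = t * (g * w * (g : G)⁻¹) * t⁻¹ := by
          have h3 := hs t ht (t * (g * w * (g : G)⁻¹) * t⁻¹) ((mem_normalizer_iff.1 (D.nV i ht) _).1 hgw)
          have h4 : ((g : G) * t * (g : G)⁻¹ * t⁻¹) * (t * (g * w * (g : G)⁻¹) * t⁻¹) *
              ((g : G) * t * (g : G)⁻¹ * t⁻¹)⁻¹ = t * (g * w * (g : G)⁻¹) * t⁻¹ := by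
            rw [h3, mul_inv_cancel_right]
          calc (g : G) * t * w * ((g : G) * t)⁻¹ = ((g : G) * t * (g : G)⁻¹ * t⁻¹) * (t * (g * w * (g : G)⁻¹) * t⁻¹) *
              ((g : G) * t * (g : G)⁻¹ * t⁻¹)⁻¹ := by group
            _ = _ := h4
        have hgc : (g : G) * c = c * g := D.Z_cent_C i (hH g.2) hc
        have e2 : (g : G) * t * w * ((g : G) * t)⁻¹ = c * (u * w) := by
          calc (g : G) * t * w * ((g : G) * t)⁻¹ = (g * c) * w * (g : G)⁻¹ := by rw [hcdef]; group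
            _ = c * (u * w) := by rw [hgc, hu]; group
        have e3 : t * (g * w * (g : G)⁻¹) * t⁻¹ = (t * u * t⁻¹) * (c * w) := by rw [hu, hcdef]; group
        have e4 : t * u * t⁻¹ ∈ V i := (mem_normalizer_iff.1 (D.nV i ht) _).1 huV
        have e5 : (t * u * t⁻¹) * (c * w) = u * (c * w) := by
          calc (t * u * t⁻¹) * (c * w) = c * (u * w) := by rw [← e3, ← e1, e2]
            _ = (c * u) * w := (mul_assoc _ _ _).symm
            _ = (u * c) * w := by rw [hab c (D.ZV i hc) u huV]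
            _ = u * (c * w) := mul_assoc _ _ _
        have e6 := mul_right_cancel e5
        calc t * u = (t * u * t⁻¹) * t := by group
          _ = u * t := by rw [e6]
    · intro a ha
      apply Subtype.ext
      have h := hBsq a (mem_subgroupOf.1 ha)
      rw [pow_two] at h
      exact h
    · exact Plug.sub_o2 (S := centralizer (zc T : Set G)) hfZ hBO
    · refine Plug.sub_o2 (S := HH T V i) (fun c => ?_) hB1
      have h1 : fxr H Y' ⊔ T.subgroupOf H = fxr H Y' :=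
        sup_eq_left.2 fun t ht => hTt t (mem_subgroupOf.1 ht)
      rw [h1, D.mem_HH]
      exact ⟨fun h => ⟨hH c.2, hfY' c h⟩, fun h => hfY c h.2⟩
    · exact fun a _ h => hcM a (hcN a h)
    · by_contra hc
      push Not at hc
      exact hm fun b hb => hcN ⟨b, hBH hb⟩ fun c z _ => hc _ (mem_subgroupOf.2 hb) _
    · intro A' hA'
      have h1 : A'.map H.subtype ≤ B := by
        rintro _ ⟨a, ha, rfl⟩
        exact mem_subgroupOf.1 (hA' ha)
      rw [hrel, hcv A' (h1.trans hBC)]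
      exact D.no_t hML hK (h1.trans hBO) fun a ha => hBsq a (h1 ha)
    · have h0 : (B.subgroupOf H).map H.subtype ≤ CC Z i := by rw [eB]; exact hBC
      rw [hrel, hcv _ h0]
      have hXc : NP Z i ≤ centralizer (NP Z i : Set G) := TwoS.comm_of_sq fun x hx => D.X_sq i x (D.NP_le_X i hx)
      have hZB : Z i ≤ centralizer (B : Set G) := comm_symm hBC
      have h2 : (centralizer (B : Set G)).relIndex (NP Z i) ≤ (centralizer (B : Set G)).relIndex (NN Z i) :=
        relIndex_le_of_sup le_sup_left hXc (sup_le le_sup_left (le_trans (le_inf le_sup_right hZB) le_sup_right))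
      have h3 : NP Z i ⊓ centralizer (B : Set G) ≤ D.tN i h0 := by
        rintro x ⟨hx, hx2⟩
        refine ⟨hx, ?_⟩
        rw [eB]
        intro a ha
        rw [mem_centralizer_iff.1 hx2 a ha, mul_inv_cancel_right, mul_inv_cancel]
        exact one_mem _
      calc (D.tN i h0).relIndex (NP Z i) ≤ (NP Z i ⊓ centralizer (B : Set G)).relIndex (NP Z i) := relIndex_anti h3
        _ = (centralizer (B : Set G)).relIndex (NP Z i) := inf_relIndex_left _ _
        _ ≤ (centralizer (B : Set G)).relIndex (NN Z i) := h2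
        _ = _ := by rw [eB]; exact hB2.symm
    · exact kgroup_mono hK hH
  obtain ⟨H', _, _, _, T', A', h⟩ := hP.inp
  exact h.false_of hML hE

/-- `V i ≰ N_i Z_i` -/
theorem no_le (hML : ML.Final.MLK.{u, u}) (hE : ML.Ex.Two.Ext.{u, u}) (D : FrN T V Z) {i : Fin 2} (hK : IsKGroup (CC Z i))
    (hF : ¬ Fail T V Z i) : ¬ V i ≤ NP Z i := fun h =>
  D.core hML hE hK hF (D.T_le_C i) le_rfl le_rfl fun w hw => ⟨1, one_mem _, fun h _ => by simp, by
    rw [one_mul]
    exact inv_mem (h hw)⟩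

/-- **THEOREM G*** -/
theorem g1 (hML : ML.Final.MLK.{u, u}) (hE : ML.Ex.Two.Ext.{u, u}) (D : FrN T V Z) {i : Fin 2} (hK : IsKGroup (CC Z i))
    (hF : ¬ Fail T V Z i) {A : Subgroup G} (hA : A ≤ CC Z i) (hA2 : IsPGroup 2 A)
    (hx : ∀ x ∈ XX V Z i, ∀ a ∈ A, a * x * a⁻¹ * x⁻¹ ∈ NP Z i) : A ≤ centralizer (NN Z i : Set G) := by
  by_contra hm
  have h0 : NN Z i ≤ NH Z i (D.KX i) :=
    D.lem0 (D.KX_le i) (D.norm_KX i) (fun a ha => ⟨hA ha, fun x hx' => hx x hx' a ha⟩) hA2 hm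
  have hKT : D.KX i ⊔ T ≤ CC Z i := sup_le (D.KX_le i) (D.T_le_C i)
  have hSH : Syl T (D.KX i ⊔ T) :=
    ⟨le_sup_right, D.T_isPGroup, fun R hR hR2 hTR => (D.syl i).2.2 R (hR.trans hKT) hR2 hTR⟩
  have hVX : V i ≤ XX V Z i := (le_V _ _).trans le_sup_left
  have hXC := D.X_le_C i
  refine D.core hML hE hK hF le_sup_right hKT
    (h0.trans (V_le_of (le_V _ _) (le_sup_left.trans (le_normalizer_V _ _)))) fun w hw => ?_
  refine exists_fix_group (C := D.KX i ⊔ T) (hKT.trans (D.C_norm_X i)) (hKT.trans (D.C_norm_Z i))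
    (hXC.trans (D.C_norm_Z i)) (fun x hx' => ?_) le_sup_right (syl_not_dvd hSH) (hVX hw) (D.com i w hw) ?_
  · have h1 := D.X_sq i x hx'
    rw [pow_two] at h1
    rw [h1]
    exact one_mem _
  · intro c hc
    obtain ⟨k, hk, t, ht, rfl⟩ := exists_mul_of_mem_sup ((D.T_le_C i).trans (D.norm_KX i)) hc
    have e : k * t * w * (k * t)⁻¹ * w⁻¹ = (k * (t * w * t⁻¹ * w⁻¹) * k⁻¹) * (k * w * k⁻¹ * w⁻¹) := by group
    rw [e]
    have h1 := D.com i w hw t ht
    rw [D.Z_cent_C i hk.1 h1, mul_inv_cancel_right]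
    exact mul_mem (mem_sup_right h1) (hk.2 w (hVX hw))

/-- (G2) -/
theorem g2 (hML : ML.Final.MLK.{u, u}) (hE : ML.Ex.Two.Ext.{u, u}) (D : FrN T V Z) {i : Fin 2} (hK : IsKGroup (CC Z i))
    (hF : ¬ Fail T V Z i) {A : Subgroup G} (hA : Mx (o2 (centralizer (zc T : Set G))) A)
    (hm : ¬ A ≤ centralizer (NN Z i : Set G)) :
    ¬ A ⊓ centralizer (NN Z i : Set G) ≤ centralizer (XX V Z i : Set G) := by
  intro hc
  apply hm
  obtain ⟨h1, h2, h3, h4⟩ := D.X_facts i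
  have hXc : XX V Z i ≤ centralizer (XX V Z i : Set G) := TwoS.comm_of_sq h2
  have h7 : (centralizer (A : Set G)).relIndex (XX V Z i) ≤ (centralizer (A : Set G)).relIndex (NN Z i) := by
    refine (hA.thom (h1.trans (D.Q_le_O i)) h2).trans ?_
    rw [← (D.mx hML hK hA).1]
    have e1 : (A ⊓ centralizer (NN Z i : Set G)).relIndex A = (centralizer (NN Z i : Set G)).relIndex A :=
      inf_relIndex_left _ _
    rw [← e1]
    exact relIndex_anti hc
  have h8 := sup_of_relIndex_le le_sup_right hXc h7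
  have hAC : A ≤ CC Z i := (hA.le.trans D.O_le_T).trans (D.T_le_C i)
  refine D.g1 hML hE hK hF hAC ((o2_isPGroup _).to_le hA.le) fun x hx a ha => mem_sup_left ?_
  obtain ⟨n, hn, y, hy, rfl⟩ := exists_mul_of_mem_sup
    ((inf_le_left.trans (D.X_le_C i)).trans (le_normalizer_V (Z (i + 1)) (CC Z i))) (h8 hx)
  have h9 : a * y = y * a := mem_centralizer_iff.1 hy.2 a ha
  have h10 : a * n * a⁻¹ ∈ NN Z i := (mem_normalizer_iff.1 (le_normalizer_V (Z (i + 1)) (CC Z i) (hAC ha)) n).1 hn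
  have e : a * (n * y) * a⁻¹ * (n * y)⁻¹ = (a * n * a⁻¹) * n⁻¹ := by
    calc a * (n * y) * a⁻¹ * (n * y)⁻¹ = a * n * (y * a⁻¹) * y⁻¹ * n⁻¹ := by group
      _ = a * n * (a⁻¹ * y) * y⁻¹ * n⁻¹ := by
        rw [(show Commute y a⁻¹ from (show Commute y a from h9.symm).inv_right).eq]
      _ = (a * n * a⁻¹) * n⁻¹ := by group
  rw [e]
  exact mul_mem h10 (inv_mem hn)

/-- **(G3)** -/
theorem g3 (hML : ML.Final.MLK.{u, u}) (hE : ML.Ex.Two.Ext.{u, u}) (D : FrN T V Z) (hK : ∀ i, IsKGroup (CC Z i)) :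
    ∀ i, ∃ A : Subgroup G, Mx (o2 (centralizer (zc T : Set G))) A ∧ A ≤ QQ Z i ∧ ¬ A ≤ centralizer (V i : Set G) := by
  intro i
  obtain ⟨hF, -, -⟩ := D.ex_false hML hE hK i
  obtain ⟨-, -, A, hA, hAm⟩ := D.ex_false hML hE hK (i + 1)
  have hm : ¬ A ≤ centralizer (NN Z i : Set G) := fun h => hAm (h.trans (centralizer_le (D.V_le_N i)))
  have h1 := D.g2 hML hE (hK i) hF hA hm
  obtain ⟨-, h2, h3⟩ := D.mx hML (hK i) hA
  set A' : Subgroup G := A ⊓ centralizer (NN Z i : Set G) ⊔ NN Z i with hA'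
  by_contra hc
  push Not at hc
  apply h1
  have h4 : XX V Z i ≤ centralizer (A' : Set G) := by
    refine sup_le (V_le fun c hc' => ?_) (comm_symm (h3.trans (D.Q_le_cent_N i)))
    have e1 : MulAut.conj c⁻¹ • QQ Z i = QQ Z i := conj_eq_of_mem (le_normalizer_o2 _ (inv_mem hc'))
    have h5 : MulAut.conj c⁻¹ • A' ≤ QQ Z i := by rw [← e1]; exact conj_le_iff.2 h3
    have h6 := comm_symm (hc _ (h2.conj (h5.trans (D.Q_le_O i))) h5)
    have h7 : MulAut.conj c • V i ≤ MulAut.conj c • centralizer ((MulAut.conj c⁻¹ • A' : Subgroup G) : Set G) :=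
      conj_le_iff.2 h6
    rwa [conj_cent, conj_conj, mul_inv_cancel, map_one, one_smul] at h7
  exact le_trans (show A ⊓ centralizer (NN Z i : Set G) ≤ A' from le_sup_left) (comm_symm h4)

end FrN

end Cfsg.Agent.Omega.KL.TwoZ

end
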